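import Groth.Agent.LocCohLib.Finiteness
import Groth.Agent.LocCohLib.Facts

/-!
# Finiteness of local cohomology by comparison with a model on basic opens
-/

set_option autoImplicit false
set_option linter.unusedSectionVars false

noncomputable section

universe u

namespace Formal2AlgzLib

open LocCohLib

variable {A : Type u} [CommRing A] [IsNoetherianRing A] {I : Ideal A} {N : Type u} [AddCommGroup N] [Module A N]

theorem finite_H_pi (i : ℕ) (h : Module.Finite A (LocCoh.H I i N)) :
    ∀ m : ℕ, Module.Finite A (LocCoh.H I i (Fin m → N))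
  | 0 => by
    haveI := subsingleton_H_of_subsingleton (I := I) (Fin 0 → N) i
    infer_instance
  | m + 1 => by
    haveI := h
    haveI := finite_H_pi i h m
    haveI : Module.Finite A (LocCoh.H I i (N × (Fin m → N))) :=
      finite_of_exact (exact_Hf (I := I) (f := LinearMap.inl A N (Fin m → N)) (g := LinearMap.snd A N (Fin m → N))
        LinearMap.inl_injective .inl_snd LinearMap.snd_surjective i)
    exact Module.Finite.equiv
      ((localCohomology I i).mapIso (Fin.consLinearEquiv A fun _ : Fin (m + 1) => N).toModuleIso).toLinearEquiv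

/-- If near every point off `V(I)` a power of `g` factors through a power of `N`, finiteness transfers. -/
theorem finite_H_of_factor [Module.Finite A N] (n : ℕ) (hN : ∀ i ≤ n, Module.Finite A (LocCoh.H I i N))
    (M : Type u) [AddCommGroup M] [Module A M] [Module.Finite A M]
    (h : ∀ p : PrimeSpectrum A, ¬ I ≤ p.asIdeal → ∃ g ∈ I, g ∉ p.asIdeal ∧
      ∃ (r k : ℕ) (ψ : (Fin r → N) →ₗ[A] M) (χ : M →ₗ[A] (Fin r → N)),
        ψ ∘ₗ χ = g ^ k • LinearMap.id) :
    ∀ i ≤ n, Module.Finite A (LocCoh.H I i M) := by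
  refine (finite_H_iff_exists_annihilator M n).2
    ⟨(Finset.range (n + 1)).inf fun i => Module.annihilator A (LocCoh.H I i M), ?_,
      fun i hi => Finset.inf_le (Finset.mem_range.2 (Nat.lt_succ_of_le hi))⟩
  rw [Ideal.radical_eq_sInf]
  refine le_sInf fun P ⟨hP, hPp⟩ => ?_
  by_contra hIP
  obtain ⟨g, hgI, hgP, r, k, ψ, χ, hfac⟩ := h ⟨P, hPp⟩ hIP
  obtain ⟨J, hJ, hJF⟩ := (finite_H_iff_exists_annihilator (I := I) (Fin r → N) n).1 fun i hi =>
    finite_H_pi i (hN i hi) r
  obtain ⟨k', hk'⟩ := hJ hgI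
  refine hgP (hPp.mem_of_pow_mem (k + k') (hP ?_))
  refine Submodule.mem_finsetInf.2 fun i hi => Module.mem_annihilator.2 fun y => ?_
  rw [pow_add, mul_smul, ← Hf_smul_id (I := I) (g ^ k) i, ← hfac, Hf_comp, map_smul,
    Module.mem_annihilator.1 (hJF i (Nat.lt_succ_iff.1 (Finset.mem_range.1 hi)) hk'), map_zero]

/-- The factorisation from a local presentation. -/
theorem exists_factor_of_presentation {M : Type u} [AddCommGroup M] [Module A M] [Module.Finite A M] {r : ℕ}
    (ψ : (Fin r → N) →ₗ[A] M) [Module.Finite A N] (g : A)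
    (hsurj : ∀ x : M, ∃ k : ℕ, g ^ k • x ∈ LinearMap.range ψ)
    (hker : ∀ v, ψ v = 0 → ∃ k : ℕ, g ^ k • v = 0) :
    ∃ (k : ℕ) (χ : M →ₗ[A] (Fin r → N)), ψ ∘ₗ χ = g ^ k • LinearMap.id := by
  have h1 : ∃ k : ℕ, ∀ x : M, g ^ k • x ∈ LinearMap.range ψ := by
    obtain ⟨s, hs⟩ := Module.Finite.fg_top (R := A) (M := M)
    choose k hk using hsurj
    refine ⟨s.sup k, fun x => ?_⟩
    have hx : x ∈ Submodule.span A (s : Set M) := hs.symm ▸ Submodule.mem_top
    induction hx using Submodule.span_induction with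
    | mem v hv =>
      rw [← Nat.sub_add_cancel (Finset.le_sup (f := k) hv), pow_add, mul_smul]
      exact Submodule.smul_mem _ _ (hk v)
    | zero => rw [smul_zero]; exact zero_mem _
    | add u v _ _ hu hv => rw [smul_add]; exact add_mem hu hv
    | smul c u _ hu => rw [smul_comm]; exact Submodule.smul_mem _ _ hu
  have h2 : ∃ k : ℕ, ∀ v, ψ v = 0 → g ^ k • v = 0 := by
    obtain ⟨s, hs⟩ := IsNoetherian.noetherian (LinearMap.ker ψ)
    choose! k hk using hker
    refine ⟨s.sup k, fun v hv => ?_⟩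
    have hx : v ∈ Submodule.span A (s : Set (Fin r → N)) := hs.symm ▸ hv
    clear hv
    induction hx using Submodule.span_induction with
    | mem w hw =>
      rw [← Nat.sub_add_cancel (Finset.le_sup (f := k) hw), pow_add, mul_smul,
        hk w (hs ▸ Submodule.subset_span hw : w ∈ LinearMap.ker ψ), smul_zero]
    | zero => exact smul_zero _
    | add u w _ _ hu hw => rw [smul_add, hu, hw, add_zero]
    | smul c u _ hu => rw [smul_comm, hu, smul_zero]
  obtain ⟨a, ha⟩ := h1
  obtain ⟨b, hb⟩ := h2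
  choose v hv using ha
  have huniq : ∀ v w, ψ v = ψ w → g ^ b • v = g ^ b • w := fun v w h => by
    rw [← sub_eq_zero, ← smul_sub]; exact hb _ (by rw [map_sub, h, sub_self])
  refine ⟨b + a, { toFun := fun x => g ^ b • v x, map_add' := fun x y => ?_, map_smul' := fun c x => ?_ }, ?_⟩
  · rw [← smul_add]; exact huniq _ _ (by rw [map_add, hv, hv, hv, smul_add])
  · rw [RingHom.id_apply, smul_comm c (g ^ b)]; exact huniq _ _ (by rw [map_smul, hv, hv, smul_comm])
  · ext x
    change ψ (g ^ b • v x) = g ^ (b + a) • x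
    rw [map_smul, hv, smul_smul, ← pow_add]

end Formal2AlgzLib
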