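import Groth.Agent.Formal2VBLib.Basic
import Groth.Agent.CohCmpLib.HomMod
import Groth.Prelude.Def_Formal2

/-!
# Stalks of modules locally isomorphic to `(O / I ^ n) ^ r`
-/

set_option autoImplicit false
set_option linter.unusedSectionVars false
set_option maxRecDepth 8000

noncomputable section

universe u

open CategoryTheory CategoryTheory.Limits AlgebraicGeometry TopologicalSpace Opposite
open ProjFormLib (ger res ger_res ger_smul ger_add ger_map exists_ger section_ext IsFrame)
open CohCmpLib (stk)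
open Formal2VBLib (stalkHom)

namespace Formal2AlgzLib

variable {X Y : Scheme.{u}} (j : Y ⟶ X) [IsOpenImmersion j] {P H : X.Modules}

theorem mem_image {p : Y} {W : Y.Opens} (hp : p ∈ W) : j p ∈ j ''ᵁ W := ⟨p, hp, rfl⟩

theorem exists_ger_image (M : X.Modules) (p : Y) (a : stk M (j p)) :
    ∃ (W : Y.Opens) (hp : p ∈ W) (s : Γ(M, j ''ᵁ W)), ger M (j p) (mem_image j hp) s = a := by
  obtain ⟨U, hU, s, rfl⟩ := exists_ger M (j p) a
  exact ⟨j ⁻¹ᵁ U, hU, res M (j.image_preimage_le U) s, ger_res M (j.image_preimage_le U) (j p) (mem_image j (W := j ⁻¹ᵁ U) hU) s⟩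

theorem app_smul_restrict (φ : (Scheme.Modules.restrictFunctor j).obj P ⟶ (Scheme.Modules.restrictFunctor j).obj H)
    (W : Y.Opens) (r : Γ(X, j ''ᵁ W)) (x : Γ(P, j ''ᵁ W)) :
    (show Γ(H, j ''ᵁ W) from φ.app W (r • x : Γ(P, j ''ᵁ W))) =
      r • (show Γ(H, j ''ᵁ W) from φ.app W x) := by
  have h := Scheme.Modules.Hom.app_smul φ ((j.appIso W).hom r) (show Γ((Scheme.Modules.restrictFunctor j).obj P, W) from x)
  change φ.app W (((j.appIso W).inv ((j.appIso W).hom r)) • x : Γ(P, j ''ᵁ W)) =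
    ((j.appIso W).inv ((j.appIso W).hom r)) • (show Γ(H, j ''ᵁ W) from φ.app W x) at h
  rwa [Iso.hom_inv_id_apply] at h

/-- The map on stalks of a morphism of restrictions. -/
def stkMap (φ : (Scheme.Modules.restrictFunctor j).obj P ⟶ (Scheme.Modules.restrictFunctor j).obj H) (p : Y) :
    stk P (j p) →ₗ[X.presheaf.stalk (j p)] stk H (j p) :=
  let θP := (Scheme.Modules.restrictStalkNatIso j p).inv.app P
  let θH := (Scheme.Modules.restrictStalkNatIso j p).hom.app H
  let g : stk P (j p) →+ stk H (j p) :=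
    θH.hom.comp ((((DerSch.stalkFunctor Y p).map φ).hom.toAddMonoidHom).comp θP.hom)
  have hg : ∀ (W : Y.Opens) (hp : p ∈ W) (x : Γ(P, j ''ᵁ W)),
      g (ger P (j p) (mem_image j hp) x) =
        ger H (j p) (mem_image j hp) (show Γ(H, j ''ᵁ W) from φ.app W x) := fun W hp x => by
    refine (congrArg (fun z => θH (((DerSch.stalkFunctor Y p).map φ).hom z))
      (ConcreteCategory.congr_hom (Scheme.Modules.germ_restrictStalkNatIso_inv_app j p P hp) x)).trans ?_
    refine (congrArg θH (ger_map φ p hp x)).trans ?_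
    exact ConcreteCategory.congr_hom (Scheme.Modules.germ_restrictStalkNatIso_hom_app j p H hp) _
  { toFun := g
    map_add' := map_add g
    map_smul' := fun c a => by
      obtain ⟨W₁, h₁, x, rfl⟩ := exists_ger_image j P p a
      obtain ⟨U, hU, r, rfl⟩ := X.presheaf.exists_germ_eq (x := j p) c
      let W := W₁ ⊓ j ⁻¹ᵁ U
      have hp : p ∈ W := ⟨h₁, hU⟩
      have hW₁ : j ''ᵁ W ≤ j ''ᵁ W₁ := Scheme.Hom.image_mono _ inf_le_left
      have hWU : j ''ᵁ W ≤ U := (Scheme.Hom.image_mono _ inf_le_right).trans (j.image_preimage_le U)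
      rw [← ger_res P hW₁ (j p) (mem_image j hp) x,
        ← TopCat.Presheaf.germ_res_apply X.presheaf (homOfLE hWU) (j p) (mem_image j hp) r, ← ger_smul, hg W hp, hg W hp,
        app_smul_restrict, ger_smul]
      rfl }

theorem stkMap_ger (φ : (Scheme.Modules.restrictFunctor j).obj P ⟶ (Scheme.Modules.restrictFunctor j).obj H)
    (p : Y) (W : Y.Opens) (hp : p ∈ W) (x : Γ(P, j ''ᵁ W)) :
    stkMap j φ p (ger P (j p) (mem_image j hp) x) =
      ger H (j p) (mem_image j hp) (show Γ(H, j ''ᵁ W) from φ.app W x) := by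
  refine (congrArg (fun z => ((Scheme.Modules.restrictStalkNatIso j p).hom.app H) (((DerSch.stalkFunctor Y p).map φ).hom z))
    (ConcreteCategory.congr_hom (Scheme.Modules.germ_restrictStalkNatIso_inv_app j p P hp) x)).trans ?_
  refine (congrArg ((Scheme.Modules.restrictStalkNatIso j p).hom.app H) (ger_map φ p hp x)).trans ?_
  exact ConcreteCategory.congr_hom (Scheme.Modules.germ_restrictStalkNatIso_hom_app j p H hp) _

theorem stkMap_bijective (φ : (Scheme.Modules.restrictFunctor j).obj P ⟶ (Scheme.Modules.restrictFunctor j).obj H)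
    [IsIso φ] (p : Y) : Function.Bijective (stkMap j φ p) := by
  have : IsIso ((DerSch.stalkFunctor Y p).map φ) := inferInstance
  exact (ConcreteCategory.bijective_of_isIso ((Scheme.Modules.restrictStalkNatIso j p).hom.app H)).comp
    ((ConcreteCategory.bijective_of_isIso ((DerSch.stalkFunctor Y p).map φ)).comp
      (ConcreteCategory.bijective_of_isIso ((Scheme.Modules.restrictStalkNatIso j p).inv.app P)))

variable {A : Type u} [CommRing A] [X.Over (Spec (CommRingCat.of A))] {I : Ideal A} {n : ℕ}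

/-- Local generators of a module locally isomorphic to `(O / I ^ n) ^ r`. -/
theorem exists_presentation {G : X.Modules} (hG : Formal2.IsFinLocFreeMod I n G) (x : X) :
    ∃ (V : X.Opens) (r : ℕ) (e : Fin r → Γ(G, V)), x ∈ V ∧ ∀ y (hy : y ∈ V),
      Function.Surjective (Fintype.linearCombination (X.presheaf.stalk y) fun l => ger G y hy (e l)) ∧
      ∀ c : Fin r → X.presheaf.stalk y,
        Fintype.linearCombination (X.presheaf.stalk y) (fun l => ger G y hy (e l)) c = 0 ↔
          ∀ l, c l ∈ (I ^ n).map (stalkHom A y) := by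
  classical
  obtain ⟨V, r, hx, ⟨φ⟩⟩ := hG x
  obtain ⟨t, ht⟩ := ProjFormLib.isFrame_freeMod X r
  let P := Formal.modPow I n (FlatMod.freeMod X r)
  let s : Fin r → Γ(P, V.ι ''ᵁ ⊤) := fun l =>
    res P le_top ((Formal.modPowπ I n (FlatMod.freeMod X r)).app ⊤ (t l))
  have hle : V ≤ V.ι ''ᵁ ⊤ := V.ι_image_top.ge
  let e : Fin r → Γ(G, V) := fun l => res G hle (show Γ(G, V.ι ''ᵁ ⊤) from φ.inv.app ⊤ (s l))
  refine ⟨V, r, e, hx, fun y hy => ?_⟩
  obtain ⟨p, rfl⟩ : ∃ p : (V : Scheme.{u}), V.ι p = y := ⟨⟨y, hy⟩, rfl⟩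
  let Φ := stkMap V.ι φ.inv p
  have hΦ : Function.Bijective Φ := stkMap_bijective V.ι φ.inv p
  let π := ((DerSch.stalkFunctor X (V.ι p)).map (Formal.modPowπ I n (FlatMod.freeMod X r))).hom
  have hπ : Function.Surjective π := (ModuleCat.epi_iff_surjective _).1 inferInstance
  let b := ht.basis (V.ι p) (U := ⊤) trivial
  have key : ∀ c, Fintype.linearCombination (X.presheaf.stalk (V.ι p)) (fun l => ger G (V.ι p) hy (e l)) c =
      Φ (π (b.equivFun.symm c)) := fun c => by
    rw [Module.Basis.equivFun_symm_apply, map_sum, map_sum, Fintype.linearCombination_apply]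
    refine Finset.sum_congr rfl fun l _ => ?_
    rw [map_smul, map_smul, IsFrame.basis_apply]
    refine congrArg (fun z => c l • z) ?_
    rw [ger_res G hle (V.ι p) hy]
    refine (stkMap_ger V.ι φ.inv p ⊤ trivial (s l)).symm.trans ?_
    refine congrArg Φ ((ger_res P le_top (V.ι p) (mem_image V.ι (W := ⊤) (p := p) trivial) _).trans ?_)
    exact (ger_map (Formal.modPowπ I n (FlatMod.freeMod X r)) (V.ι p) (U := ⊤) trivial (t l)).symm
  refine ⟨fun a => ?_, fun c => ?_⟩
  · obtain ⟨z, rfl⟩ := hΦ.2 a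
    obtain ⟨w, rfl⟩ := hπ z
    exact ⟨b.equivFun w, by rw [key, LinearEquiv.symm_apply_apply]⟩
  · rw [key, map_eq_zero_iff Φ hΦ.1, Formal2VBLib.stalk_π_eq_zero_iff]
    constructor
    · intro h l
      have h2 := Submodule.mem_map_of_mem (f := b.coord l) h
      rw [Submodule.map_smul''] at h2
      have h3 := Submodule.smul_le.2 (fun r hr x _ => Ideal.mul_mem_right x _ hr) h2
      rwa [Module.Basis.coord_apply, ← Module.Basis.equivFun_apply, LinearEquiv.apply_symm_apply] at h3
    · intro h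
      rw [Module.Basis.equivFun_symm_apply]
      exact Submodule.sum_mem _ fun l _ => Submodule.smul_mem_smul (h l) Submodule.mem_top

end Formal2AlgzLib
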