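import Groth.Agent.Formal2AlgzLib.Stalk
import Groth.Agent.Formal2AlgzLib.Frame
import Groth.Agent.Formal2VBLib.Sections

/-!
# Formal vector bundles along a nonzerodivisor, stalkwise
-/

set_option autoImplicit false
set_option linter.unusedSectionVars false
set_option maxRecDepth 8000

noncomputable section

universe u

open CategoryTheory CategoryTheory.Limits AlgebraicGeometry TopologicalSpace Opposite
open ProjFormLib (ger res ger_res ger_smul ger_add ger_map exists_ger section_ext)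
open CohCmpLib (stk)
open Formal2VBLib (stalkHom hom_ext_stalk)

namespace Formal2AlgzLib

variable {A : Type u} [CommRing A] {X : Scheme.{u}}

theorem mono_of_stalk {M N : X.Modules} (u : M ⟶ N)
    (h : ∀ y (a : stk M y), ((DerSch.stalkFunctor X y).map u).hom a = 0 → a = 0) : Mono u :=
  Preadditive.mono_of_cancel_zero _ fun {K : X.Modules} (g : K ⟶ M) hg => hom_ext_stalk fun y a => by
    rw [Functor.map_zero]
    refine h y _ ?_
    refine (show ((DerSch.stalkFunctor X y).map u).hom (((DerSch.stalkFunctor X y).map g).hom a) =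
      ((DerSch.stalkFunctor X y).map (g ≫ u)).hom a by rw [Functor.map_comp]; rfl).trans ?_
    rw [hg, Functor.map_zero]
    rfl

theorem exact_of_stalk (T : ShortComplex X.Modules)
    (h : ∀ y (a : stk T.X₂ y), ((DerSch.stalkFunctor X y).map T.g).hom a = 0 →
      ∃ b : stk T.X₁ y, ((DerSch.stalkFunctor X y).map T.f).hom b = a) : T.Exact := by
  refine T.exact_iff_kernel_ι_comp_cokernel_π_zero.2 (hom_ext_stalk fun y a => ?_)
  let F := DerSch.stalkFunctor X y
  rw [F.map_comp, F.map_zero]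
  change (F.map (cokernel.π T.f)).hom ((F.map (kernel.ι T.g)).hom a) = 0
  obtain ⟨b, hb⟩ := h y ((F.map (kernel.ι T.g)).hom a) (by
    refine (show _ = (F.map (kernel.ι T.g ≫ T.g)).hom a by rw [F.map_comp]; rfl).trans ?_
    rw [kernel.condition, F.map_zero]
    rfl)
  rw [← hb]
  refine (show _ = (F.map (T.f ≫ cokernel.π T.f)).hom b by rw [F.map_comp]; rfl).trans ?_
  rw [cokernel.condition, F.map_zero]
  rfl

variable [X.Over (Spec (CommRingCat.of A))] {f : A}

theorem mem_span_pow_smul_top {k : ℕ} {y : X} {N : Type u} [AddCommGroup N] [Module (X.presheaf.stalk y) N] (a : N) :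
    a ∈ (((Ideal.span ({f} : Set A)) ^ k).map (stalkHom A y)) • (⊤ : Submodule (X.presheaf.stalk y) N) ↔
      ∃ b : N, stalkHom A y f ^ k • b = a := by
  rw [Ideal.span_singleton_pow, Ideal.map_span, Set.image_singleton, map_pow, Submodule.ideal_span_singleton_smul,
    Submodule.mem_smul_pointwise_iff_exists]
  exact ⟨fun ⟨b, _, hb⟩ => ⟨b, hb⟩, fun ⟨b, hb⟩ => ⟨b, trivial, hb⟩⟩

theorem mem_span_pow {k : ℕ} {y : X} (c : X.presheaf.stalk y) :
    c ∈ (((Ideal.span ({f} : Set A)) ^ k).map (stalkHom A y)) ↔ ∃ d, stalkHom A y f ^ k * d = c := by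
  rw [Ideal.span_singleton_pow, Ideal.map_span, Set.image_singleton, map_pow, Ideal.mem_span_singleton]
  exact ⟨fun ⟨d, hd⟩ => ⟨d, hd.symm⟩, fun ⟨d, hd⟩ => ⟨d, hd.symm⟩⟩

variable {G : ℕᵒᵖ ⥤ X.Modules} (hG : Formal.IsCohFormal (Ideal.span ({f} : Set A)) G)

variable (G) in
/-- The `n`-th term. -/
abbrev Gn (n : ℕ) : X.Modules := G.obj (op n)

variable (G) in
/-- The transition map. -/
abbrev tr (n : ℕ) : Gn G (n + 1) ⟶ Gn G n := G.map (homOfLE (Nat.le_succ n)).op

include hG

theorem smulFamily_tr (n : ℕ) :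
    Formal.smulFamily ((Ideal.span ({f} : Set A)) ^ (n + 1)) (Gn G (n + 1)) ≫ tr G n = 0 := (hG.2.2 n).choose

theorem π_desc_tr (n : ℕ) : Formal.modPowπ (Ideal.span ({f} : Set A)) (n + 1) (Gn G (n + 1)) ≫
    cokernel.desc _ (tr G n) (smulFamily_tr hG n) = tr G n :=
  cokernel.π_desc _ _ _

theorem isIso_desc_tr (n : ℕ) : IsIso (cokernel.desc _ (tr G n) (smulFamily_tr hG n)) := (hG.2.2 n).choose_spec

theorem epi_tr (n : ℕ) : Epi (tr G n) := by
  haveI hd : Epi (cokernel.desc _ (tr G n) (smulFamily_tr hG n)) :=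
    @IsIso.epi_of_iso _ _ _ _ _ (isIso_desc_tr hG n)
  have h := @epi_comp _ _ _ _ _ (Formal.modPowπ (Ideal.span ({f} : Set A)) (n + 1) (Gn G (n + 1))) inferInstance
    (cokernel.desc _ (tr G n) (smulFamily_tr hG n)) hd
  exact π_desc_tr hG n ▸ h

theorem stalk_tr_surjective (n : ℕ) (y : X) : Function.Surjective ((DerSch.stalkFunctor X y).map (tr G n)).hom := by
  have := epi_tr hG n
  exact (ModuleCat.epi_iff_surjective _).1 inferInstance

theorem stalk_tr_eq_zero_iff (n : ℕ) (y : X) (a : stk (Gn G (n + 1)) y) :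
    ((DerSch.stalkFunctor X y).map (tr G n)).hom a = 0 ↔ ∃ b, stalkHom A y f ^ (n + 1) • b = a := by
  let F := DerSch.stalkFunctor X y
  have := isIso_desc_tr hG n
  have hb : Function.Bijective (F.map (cokernel.desc _ (tr G n) (smulFamily_tr hG n))).hom :=
    ConcreteCategory.bijective_of_isIso _
  rw [← mem_span_pow_smul_top, ← Formal2VBLib.stalk_π_eq_zero_iff]
  have e : (F.map (tr G n)).hom a = (F.map (cokernel.desc _ (tr G n) (smulFamily_tr hG n))).hom
      ((F.map (Formal.modPowπ (Ideal.span ({f} : Set A)) (n + 1) (Gn G (n + 1)))).hom a) :=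
    LinearMap.congr_fun (congrArg ModuleCat.Hom.hom ((congrArg F.map (π_desc_tr hG n).symm).trans (F.map_comp _ _))) a
  refine Iff.trans (iff_of_eq (congrArg (· = 0) e)) ?_
  exact map_eq_zero_iff _ hb.1

/-- Multiplication by `f`, as a map `G n ⟶ G (n + 1)`. -/
def jmap (n : ℕ) : Gn G n ⟶ Gn G (n + 1) :=
  haveI := isIso_desc_tr hG n
  inv (cokernel.desc _ (tr G n) (smulFamily_tr hG n)) ≫
    cokernel.desc _ (Formal.smulMod A (Gn G (n + 1)) f) (Formal2VBLib.smulFamily_comp_eq_zero _ _ fun a ha => by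
      have h := hG.2.1 (n + 1) (f * a) (by
        rw [pow_succ']
        exact Ideal.mul_mem_mul (Ideal.mem_span_singleton_self f) ha)
      refine Eq.trans ?_ h
      refine Scheme.Modules.hom_ext _ _ fun U => ConcreteCategory.hom_ext _ _ fun m => ?_
      change X.presheaf.map (homOfLE (le_top : U ≤ ⊤)).op (Coh.toGlobal (X ↘ Spec (CommRingCat.of A)) f) •
          (X.presheaf.map (homOfLE (le_top : U ≤ ⊤)).op (Coh.toGlobal (X ↘ Spec (CommRingCat.of A)) a) • m) =
        X.presheaf.map (homOfLE (le_top : U ≤ ⊤)).op (Coh.toGlobal (X ↘ Spec (CommRingCat.of A)) (f * a)) • m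
      rw [smul_smul, ← map_mul]
      exact congrArg (fun t => X.presheaf.map (homOfLE (le_top : U ≤ ⊤)).op t • m) (map_mul _ f a).symm)

theorem tr_jmap (n : ℕ) : tr G n ≫ jmap hG n = Formal.smulMod A (Gn G (n + 1)) f := by
  have := isIso_desc_tr hG n
  refine (congrArg (· ≫ jmap hG n) (π_desc_tr hG n).symm).trans ?_
  refine (Category.assoc _ _ _).trans ((congrArg (Formal.modPowπ _ _ _ ≫ ·) ?_).trans (cokernel.π_desc _ _ ?_))
  exact @IsIso.hom_inv_id_assoc _ _ _ _ _ (isIso_desc_tr hG n) _ _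

theorem jmap_tr (n : ℕ) : jmap hG n ≫ tr G n = Formal.smulMod A (Gn G n) f := by
  have := epi_tr hG n
  rw [← cancel_epi (tr G n), ← Category.assoc, tr_jmap, Formal.smulMod, Formal2VBLib.smulModΓ_naturality]
  rfl

theorem stalk_jmap_tr (n : ℕ) (y : X) (a : stk (Gn G (n + 1)) y) :
    ((DerSch.stalkFunctor X y).map (jmap hG n)).hom (((DerSch.stalkFunctor X y).map (tr G n)).hom a) =
      stalkHom A y f • a := by
  refine (show _ = ((DerSch.stalkFunctor X y).map (tr G n ≫ jmap hG n)).hom a by rw [Functor.map_comp]; rfl).trans ?_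
  rw [tr_jmap, Formal.smulMod, Formal2VBLib.stalk_smulModΓ]
  rfl

theorem tr_jmap_succ (n : ℕ) : jmap hG (n + 1) ≫ tr G (n + 1) = tr G n ≫ jmap hG n := by
  rw [jmap_tr, tr_jmap]

variable (G) in
omit hG in
/-- The map to the bottom term. -/
def t0 : ∀ n, Gn G n ⟶ Gn G 0
  | 0 => 𝟙 _
  | n + 1 => tr G n ≫ t0 n

/-- `f ^ (n + 1)` as a map `G 0 ⟶ G (n + 1)`. -/
def iota : ∀ n, Gn G 0 ⟶ Gn G (n + 1)
  | 0 => jmap hG 0
  | n + 1 => iota n ≫ jmap hG (n + 1)

theorem stalk_t0_surjective : ∀ (n : ℕ) (y : X), Function.Surjective ((DerSch.stalkFunctor X y).map (t0 G n)).hom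
  | 0, y => fun a => ⟨a, by rw [t0, CategoryTheory.Functor.map_id]; rfl⟩
  | n + 1, y => by
    rw [t0, Functor.map_comp]
    exact (stalk_t0_surjective n y).comp (stalk_tr_surjective hG n y)

theorem stalk_iota_t0 : ∀ (n : ℕ) (y : X) (a : stk (Gn G (n + 1)) y),
    ((DerSch.stalkFunctor X y).map (iota hG n)).hom (((DerSch.stalkFunctor X y).map (t0 G (n + 1))).hom a) =
      stalkHom A y f ^ (n + 1) • a
  | 0, y, a => by
    rw [pow_one, iota, t0, t0, Category.comp_id]
    exact stalk_jmap_tr hG 0 y a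
  | n + 1, y, a => by
    rw [iota, t0, Functor.map_comp, Functor.map_comp]
    change ((DerSch.stalkFunctor X y).map (jmap hG (n + 1))).hom (((DerSch.stalkFunctor X y).map (iota hG n)).hom
      (((DerSch.stalkFunctor X y).map (t0 G (n + 1))).hom (((DerSch.stalkFunctor X y).map (tr G (n + 1))).hom a))) = _
    rw [stalk_iota_t0 n y, map_smul, stalk_jmap_tr, smul_smul, ← pow_succ]

variable (hfree : ∀ n : ℕ, Formal2.IsFinLocFreeMod (Ideal.span ({f} : Set A)) (n + 1) (G.obj (op n)))
  (hreg : ∀ (y : X) (c : X.presheaf.stalk y), stalkHom A y f * c = 0 → c = 0)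

omit hG in
include hfree hreg in
/-- The annihilator of a power of `f` in a stalk of `G n`. -/
theorem exists_eq_pow_smul (n : ℕ) (y : X) {k l : ℕ} (hkl : k + l = n + 1) (a : stk (Gn G n) y)
    (ha : stalkHom A y f ^ k • a = 0) : ∃ b, stalkHom A y f ^ l • b = a := by
  obtain ⟨V, r, e, hy, he⟩ := exists_presentation (hfree n) y
  obtain ⟨hsurj, hker⟩ := he y hy
  obtain ⟨c, rfl⟩ := hsurj a
  rw [← map_smul, hker] at ha
  have hr : ∀ (m : ℕ) (c : X.presheaf.stalk y), stalkHom A y f ^ m * c = 0 → c = 0 := fun m => by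
    induction m with
    | zero => intro c hc; rwa [pow_zero, one_mul] at hc
    | succ m ih => intro c hc; exact ih c (hreg y _ (by rw [← mul_assoc, ← pow_succ', hc]))
  choose d hd using fun i => (mem_span_pow _).1 (ha i)
  refine ⟨Fintype.linearCombination _ (fun i => ger (Gn G n) y hy (e i)) d, ?_⟩
  rw [← map_smul]
  refine congrArg _ (funext fun i => sub_eq_zero.1 (hr k _ ?_))
  have h2 : stalkHom A y f ^ (n + 1) * d i = stalkHom A y f ^ k * c i := hd i
  rw [← hkl, pow_add] at h2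
  rw [Pi.smul_apply, smul_eq_mul, mul_sub, ← mul_assoc, h2, sub_self]

include hfree hreg in
theorem stalk_iota_injective (n : ℕ) (y : X) (x : stk (Gn G 0) y)
    (hx : ((DerSch.stalkFunctor X y).map (iota hG n)).hom x = 0) : x = 0 := by
  obtain ⟨a, rfl⟩ := stalk_t0_surjective hG (n + 1) y x
  rw [stalk_iota_t0] at hx
  obtain ⟨b, rfl⟩ := exists_eq_pow_smul hfree hreg (n + 1) y (k := n + 1) (l := 1) rfl a hx
  rw [map_smul, pow_one]
  generalize ((DerSch.stalkFunctor X y).map (t0 G (n + 1))).hom b = z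
  obtain ⟨V, r, e, hy, he⟩ := exists_presentation (hfree 0) y
  obtain ⟨hsurj, hker⟩ := he y hy
  obtain ⟨c, rfl⟩ := hsurj z
  rw [← map_smul, hker]
  exact fun i => (mem_span_pow _).2 ⟨c i, by rw [pow_one]; rfl⟩

/-- The basic sequence `0 → G 0 → G (n + 1) → G n → 0`. -/
def levelSeq (n : ℕ) : ShortComplex X.Modules :=
  ShortComplex.mk (iota hG n) (tr G n) (hom_ext_stalk fun y x => by
    obtain ⟨a, rfl⟩ := stalk_t0_surjective hG (n + 1) y x
    rw [Functor.map_comp, Functor.map_zero]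
    change ((DerSch.stalkFunctor X y).map (tr G n)).hom (((DerSch.stalkFunctor X y).map (iota hG n)).hom _) = 0
    rw [stalk_iota_t0, stalk_tr_eq_zero_iff hG]
    exact ⟨a, rfl⟩)

include hfree hreg in
theorem levelSeq_shortExact (n : ℕ) : (levelSeq hG n).ShortExact :=
  { exact := exact_of_stalk _ fun y a ha => by
      obtain ⟨b, rfl⟩ := (stalk_tr_eq_zero_iff hG n y a).1 ha
      exact ⟨((DerSch.stalkFunctor X y).map (t0 G (n + 1))).hom b, stalk_iota_t0 hG n y b⟩
    mono_f := mono_of_stalk _ (stalk_iota_injective hG hfree hreg n)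
    epi_g := epi_tr hG n }

end Formal2AlgzLib
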