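import Groth.Agent.Formal2AlgzLib.Finite
import Groth.Agent.Formal2VBLib.Basic
import Groth.Agent.AtlasCohLib.FiniteCoh
import Groth.Agent.CompleteLib.Basic

/-!
# The limit of the sections of a formal bundle along `f`
-/

set_option autoImplicit false
set_option linter.unusedSectionVars false
set_option maxRecDepth 8000

noncomputable section

universe u

open CategoryTheory CategoryTheory.Limits AlgebraicGeometry TopologicalSpace Opposite
open CohCmpLib (stk)
open KoszLcLib (scal)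
open Formal2VBLib (stalkHom zeroΓ zeroΓ_map)

namespace Formal2AlgzLib

variable {A : Type u} [CommRing A] [IsNoetherianRing A] {𝔞 : Ideal A} {f : A}
  {G : ℕᵒᵖ ⥤ (PU 𝔞).Modules} (hG : Formal.IsCohFormal (Ideal.span ({f} : Set A)) G)
  (hfree : ∀ n : ℕ, Formal2.IsFinLocFreeMod (Ideal.span ({f} : Set A)) (n + 1) (G.obj (op n)))
  (hnzd : f ∈ nonZeroDivisors A)

variable (G) in
/-- Sections of the `n`-th term. -/
abbrev SG (n : ℕ) : Type u := S (Gn G n)

theorem secL_comp {P Q R : (PU 𝔞).Modules} (φ : P ⟶ Q) (ψ : Q ⟶ R) (s : S P) :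
    secL (φ ≫ ψ) s = secL ψ (secL φ s) := rfl

theorem secL_smulMod (P : (PU 𝔞).Modules) (a : A) (s : S P) : secL (Formal.smulMod A P a) s = a • s :=
  Formal2VBLib.app_smulModΓ_top P (scal 𝔞 a) s

variable (G) in
/-- Transition map to a lower level. -/
def down {m k : ℕ} (h : m ≤ k) : SG G k →ₗ[A] SG G m := secL (G.map (homOfLE h).op)

theorem down_down {l m k : ℕ} (h : l ≤ m) (h' : m ≤ k) (s : SG G k) :
    down G h (down G h' s) = down G (h.trans h') s := by
  refine (secL_comp (G.map (homOfLE h').op) (G.map (homOfLE h).op) s).symm.trans ?_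
  rw [← G.map_comp]
  rfl

theorem down_self {m : ℕ} (h : m ≤ m) (s : SG G m) : down G h s = s := by
  refine (congrArg (fun φ => secL φ s) (show G.map (homOfLE h).op = 𝟙 _ from ?_)).trans rfl
  exact G.map_id _

include hG in
theorem pow_smul_eq_zero (n : ℕ) {a : A} (ha : a ∈ (Ideal.span ({f} : Set A)) ^ (n + 1)) (s : SG G n) : a • s = 0 := by
  refine (secL_smulMod (Gn G n) a s).symm.trans ?_
  rw [hG.2.1 n a ha]
  rfl

include hG in
theorem down_jmap {m k : ℕ} (h : m ≤ k) (s : SG G k) :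
    down G (h.trans (Nat.le_succ k)) (secL (jmap hG k) s) = f • down G h s := by
  rw [← down_down h (Nat.le_succ k), ← map_smul]
  refine congrArg (down G h) ?_
  refine (secL_comp (jmap hG k) (tr G k) s).symm.trans ?_
  rw [jmap_tr hG k, secL_smulMod]

include hfree hnzd in
theorem jmap_injective (n : ℕ) : Function.Injective (secL (jmap hG n)) :=
  (injective_iff_map_eq_zero _).2 fun s hs => eq_zero_of_gS _ _ fun y => by
    obtain ⟨a, ha⟩ := stalk_tr_surjective hG n y (gS (Gn G n) y s)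
    have h := congrArg (gS (Gn G (n + 1)) y) hs
    rw [gS_secL, map_zero, ← ha, stalk_jmap_tr] at h
    obtain ⟨b, rfl⟩ := exists_eq_pow_smul hfree (fun y => isSMulRegular_stalkHom hnzd y) (n + 1) y
      (k := 1) (l := n + 1) (by omega) a (by rw [pow_one]; exact h)
    rw [← ha, (stalk_tr_eq_zero_iff hG n y _).2 ⟨b, rfl⟩]

include hfree hnzd in
theorem exists_eq_jmap (n : ℕ) (s : SG G (n + 1)) (hs : down G (Nat.zero_le (n + 1)) s = 0) :
    ∃ z : SG G n, secL (jmap hG n) z = s := by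
  have hmono : Mono (jmap hG n) := mono_of_stalk _ fun y x hx => by
    obtain ⟨a, rfl⟩ := stalk_tr_surjective hG n y x
    rw [stalk_jmap_tr] at hx
    obtain ⟨b, rfl⟩ := exists_eq_pow_smul hfree (fun y => isSMulRegular_stalkHom hnzd y) (n + 1) y
      (k := 1) (l := n + 1) (by omega) a (by rw [pow_one]; exact hx)
    exact (stalk_tr_eq_zero_iff hG n y _).2 ⟨b, rfl⟩
  have ht0 : ∀ k, t0 G k = G.map (homOfLE (Nat.zero_le k)).op := fun k => by
    induction k with
    | zero => exact (G.map_id _).symm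
    | succ k ih =>
      rw [t0, ih]
      exact (G.map_comp _ _).symm
  have hker : ∀ (k : ℕ) (y : PU 𝔞) (a : stk (Gn G k) y),
      ((DerSch.stalkFunctor (PU 𝔞) y).map (t0 G k)).hom a = 0 ↔ ∃ b, stalkHom A y f • b = a := by
    intro k
    induction k with
    | zero =>
      intro y a
      rw [t0, CategoryTheory.Functor.map_id]
      refine ⟨fun h => ⟨0, by rw [smul_zero]; exact h.symm⟩, ?_⟩
      rintro ⟨b, rfl⟩
      obtain ⟨V, r, e, hy, he⟩ := exists_presentation (hfree 0) y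
      obtain ⟨hsurj, hker⟩ := he y hy
      obtain ⟨c, rfl⟩ := hsurj b
      change stalkHom A y f • _ = (0 : stk (Gn G 0) y)
      rw [← map_smul, hker]
      exact fun i => (mem_span_pow _).2 ⟨c i, by rw [pow_one]; rfl⟩
    | succ k ih =>
      intro y a
      rw [t0, Functor.map_comp]
      change ((DerSch.stalkFunctor (PU 𝔞) y).map (t0 G k)).hom (((DerSch.stalkFunctor (PU 𝔞) y).map (tr G k)).hom a) = 0 ↔ _
      rw [ih]
      constructor
      · rintro ⟨b, hb⟩
        obtain ⟨b', rfl⟩ := stalk_tr_surjective hG k y b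
        rw [← map_smul, ← sub_eq_zero, ← map_sub, stalk_tr_eq_zero_iff hG] at hb
        obtain ⟨c, hc⟩ := hb
        refine ⟨b' - stalkHom A y f ^ k • c, ?_⟩
        rw [smul_sub, smul_smul, ← pow_succ', hc, sub_sub_cancel]
      · rintro ⟨b, rfl⟩
        exact ⟨_, (map_smul _ _ _).symm⟩
  have hex : (ShortComplex.mk (jmap hG n) (t0 G (n + 1)) (Formal2VBLib.hom_ext_stalk fun y x => by
      obtain ⟨a, rfl⟩ := stalk_tr_surjective hG n y x
      rw [Functor.map_comp, Functor.map_zero]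
      change ((DerSch.stalkFunctor (PU 𝔞) y).map (t0 G (n + 1))).hom
        (((DerSch.stalkFunctor (PU 𝔞) y).map (jmap hG n)).hom _) = 0
      rw [stalk_jmap_tr, hker]
      exact ⟨a, rfl⟩)).Exact := exact_of_stalk _ fun y a ha => by
    obtain ⟨b, rfl⟩ := (hker (n + 1) y a).1 ha
    exact ⟨((DerSch.stalkFunctor (PU 𝔞) y).map (tr G n)).hom b, stalk_jmap_tr hG n y b⟩
  obtain ⟨z, hz⟩ := QCohLib.exists_of_app_eq_zero hex hmono (U := ⊤) (show Γ(Gn G (n + 1), ⊤) from s) (by
    change secL (t0 G (n + 1)) s = 0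
    rw [ht0]
    exact hs)
  exact ⟨z, hz⟩

/-- The connecting map. -/
def δ (n : ℕ) : SG G n →ₗ[A] Coh.HH (PU 𝔞) (Gn G 0) 1 where
  toFun s := AtlasCoh.hδ (QCohLib.toAbF_shortExact
    (levelSeq_shortExact hG hfree (fun y => isSMulRegular_stalkHom hnzd y) n)) 0 ((zeroΓ (Gn G n)).symm s)
  map_add' s t := (congrArg _ (map_add (zeroΓ (Gn G n)).symm s t)).trans (map_add _ _ _)
  map_smul' a s := by
    have e : (zeroΓ (Gn G n)).symm (a • s) = a • (zeroΓ (Gn G n)).symm s := by
      refine (zeroΓ (Gn G n)).injective (((zeroΓ (Gn G n)).apply_symm_apply (a • s)).trans ?_)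
      refine Eq.trans ?_ (zeroΓ_map (Formal.smulModΓ (Gn G n) (scal 𝔞 a)) ((zeroΓ (Gn G n)).symm s)).symm
      rw [AddEquiv.apply_symm_apply]
      exact (secL_smulMod (Gn G n) a s).symm
    exact (congrArg _ e).trans ((AtlasCoh.δLin (levelSeq_shortExact hG hfree (fun y => isSMulRegular_stalkHom hnzd y) n)
      ((PU 𝔞) ↘ Spec (CommRingCat.of A)) 0).map_smul a _)

theorem exists_lift_of_δ_eq_zero (n : ℕ) (s : SG G n) (hs : δ hG hfree hnzd n s = 0) :
    ∃ s' : SG G (n + 1), secL (tr G n) s' = s := by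
  obtain ⟨x, hx⟩ := AtlasCoh.hExact₃ (QCohLib.toAbF_shortExact
    (levelSeq_shortExact hG hfree (fun y => isSMulRegular_stalkHom hnzd y) n)) 0 _ hs
  refine ⟨zeroΓ (Gn G (n + 1)) x, ?_⟩
  refine (zeroΓ_map (tr G n) x).symm.trans ?_
  exact (congrArg (zeroΓ (Gn G n)) hx).trans ((zeroΓ (Gn G n)).apply_symm_apply s)

theorem δ_jmap (n : ℕ) (s : SG G n) : δ hG hfree hnzd (n + 1) (secL (jmap hG n) s) = δ hG hfree hnzd n s := by
  have hr := fun y => isSMulRegular_stalkHom (𝔞 := 𝔞) hnzd y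
  let T := (levelSeq hG n).map (QCohLib.toAbF (PU 𝔞))
  let T' := (levelSeq hG (n + 1)).map (QCohLib.toAbF (PU 𝔞))
  have hT : T.ShortExact := QCohLib.toAbF_shortExact (levelSeq_shortExact hG hfree hr n)
  have hT' : T'.ShortExact := QCohLib.toAbF_shortExact (levelSeq_shortExact hG hfree hr (n + 1))
  let φ : T ⟶ T' := (QCohLib.toAbF (PU 𝔞)).mapShortComplex.map
    (ShortComplex.homMk (S₁ := levelSeq hG n) (S₂ := levelSeq hG (n + 1)) (𝟙 _) (jmap hG (n + 1)) (jmap hG n)
      (Category.id_comp _) (tr_jmap_succ hG n))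
  have h1 : (zeroΓ (Gn G (n + 1))).symm (secL (jmap hG n) s) =
      Sheaf.H.map φ.τ₃ 0 ((zeroΓ (Gn G n)).symm s) := by
    refine (zeroΓ (Gn G (n + 1))).injective (((zeroΓ _).apply_symm_apply _).trans ?_)
    refine Eq.trans ?_ (zeroΓ_map (jmap hG n) ((zeroΓ (Gn G n)).symm s)).symm
    rw [AddEquiv.apply_symm_apply]
    rfl
  change AtlasCoh.hδ hT' 0 ((zeroΓ (Gn G (n + 1))).symm (secL (jmap hG n) s)) =
    AtlasCoh.hδ hT 0 ((zeroΓ (Gn G n)).symm s)
  rw [h1]
  show (Abelian.Ext.comp ((zeroΓ (Gn G n)).symm s) (Abelian.Ext.mk₀ φ.τ₃) (add_zero 0)).comp hT'.extClass rfl =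
    Abelian.Ext.comp ((zeroΓ (Gn G n)).symm s) hT.extClass rfl
  refine (Abelian.Ext.comp_assoc_of_second_deg_zero _ _ _ _).trans ?_
  refine congrArg (fun e => Abelian.Ext.comp ((zeroΓ (Gn G n)).symm s) e rfl) ?_
  refine (ShortComplex.ShortExact.extClass_naturality hT hT' φ).symm.trans ?_
  rw [show φ.τ₁ = 𝟙 T.X₁ from (QCohLib.toAbF (PU 𝔞)).map_id _]
  exact Abelian.Ext.comp_mk₀_id _

include hG hfree hnzd in
theorem exists_shift (k : ℕ) (u : SG G k) :
    ∀ d : ℕ, ∃ v : SG G (k + d), δ hG hfree hnzd (k + d) v = δ hG hfree hnzd k u ∧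
      ∀ (m : ℕ) (h : m ≤ k), down G (h.trans (Nat.le_add_right k d)) v = f ^ d • down G h u
  | 0 => ⟨u, rfl, fun m h => by rw [pow_zero, one_smul]⟩
  | d + 1 => by
    obtain ⟨v, hv, hd⟩ := exists_shift k u d
    refine ⟨secL (jmap hG (k + d)) v, (δ_jmap hG hfree hnzd (k + d) v).trans hv, fun m h => ?_⟩
    refine (down_jmap hG (h.trans (Nat.le_add_right k d)) v).trans ?_
    rw [hd m h, smul_smul, ← pow_succ']

include hG hfree hnzd in
/-- From some level on, images at a fixed level are stable. -/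
theorem exists_threshold [Module.Finite A (Coh.HH (PU 𝔞) (Gn G 0) 1)] :
    ∃ n₀ : ℕ, ∀ (m k : ℕ) (hk : (n₀ + m) + (m + 1) ≤ k) (s : SG G k), ∃ s' : SG G (k + 1),
      down G (show m ≤ k + 1 by omega) s' = down G (show m ≤ k by omega) s := by
  have hmono : Monotone fun n => LinearMap.range (δ hG hfree hnzd n) := monotone_nat_of_le_succ fun n => by
    rintro _ ⟨s, rfl⟩
    exact ⟨secL (jmap hG n) s, δ_jmap hG hfree hnzd n s⟩
  obtain ⟨n₀, hn₀⟩ := monotone_stabilizes_iff_noetherian.2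
    (isNoetherian_of_isNoetherianRing_of_finite A (Coh.HH (PU 𝔞) (Gn G 0) 1)) ⟨_, hmono⟩
  refine ⟨n₀, fun m k hk s => ?_⟩
  obtain ⟨k', rfl⟩ : ∃ k', k = k' + (m + 1) := ⟨k - (m + 1), by omega⟩
  have hrange : LinearMap.range (δ hG hfree hnzd (k' + (m + 1))) = LinearMap.range (δ hG hfree hnzd k') :=
    (hn₀ _ (by omega)).symm.trans (hn₀ k' (by omega))
  obtain ⟨u, hu⟩ := hrange ▸ LinearMap.mem_range_self (δ hG hfree hnzd (k' + (m + 1))) s
  obtain ⟨v, hv, hd⟩ := exists_shift hG hfree hnzd k' u (m + 1)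
  obtain ⟨s', hs'⟩ := exists_lift_of_δ_eq_zero hG hfree hnzd _ (s - v) (by rw [map_sub, hv, hu, sub_self])
  refine ⟨s', ?_⟩
  rw [← down_down (show m ≤ k' + (m + 1) by omega) (Nat.le_succ _)]
  refine (congrArg (down G _) hs').trans ?_
  rw [map_sub, hd m (by omega),
    pow_smul_eq_zero hG m (Ideal.pow_mem_pow (Ideal.mem_span_singleton_self f) (m + 1)), sub_zero]

variable (G) in
/-- The limit of the sections. -/
def Lim : Submodule A (∀ n, SG G n) where
  carrier := {y | ∀ n, down G (Nat.le_succ n) (y (n + 1)) = y n}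
  zero_mem' := fun n => map_zero _
  add_mem' := fun {x y} hx hy n => by
    show down G (Nat.le_succ n) (x (n + 1) + y (n + 1)) = x n + y n
    rw [map_add, hx n, hy n]
  smul_mem' := fun a x hx n => by
    show down G (Nat.le_succ n) (a • x (n + 1)) = a • x n
    rw [map_smul, hx n]

theorem Lim_compat (y : Lim G) : ∀ (d m : ℕ), down G (Nat.le_add_right m d) (y.1 (m + d)) = y.1 m
  | 0, m => down_self _ _
  | d + 1, m => by
    rw [← Lim_compat y d m, ← y.2 (m + d), down_down]
    rfl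

theorem Lim_down (y : Lim G) {m k : ℕ} (h : m ≤ k) : down G h (y.1 k) = y.1 m := by
  obtain ⟨d, rfl⟩ := Nat.le.dest h
  exact Lim_compat y d m

/-- The projection. -/
def proj (n : ℕ) : Lim G →ₗ[A] SG G n := LinearMap.proj n ∘ₗ (Lim G).subtype

theorem exists_lim_of_stable {n₀ : ℕ}
    (hst : ∀ (m k : ℕ) (hk : (n₀ + m) + (m + 1) ≤ k) (s : SG G k), ∃ s' : SG G (k + 1),
      down G (show m ≤ k + 1 by omega) s' = down G (show m ≤ k by omega) s)
    (m k : ℕ) (hk : (n₀ + m) + (m + 1) ≤ k) (s : SG G k) :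
    ∃ y : Lim G, y.1 m = down G (show m ≤ k by omega) s := by
  have hraise : ∀ (m k d : ℕ) (hk : (n₀ + m) + (m + 1) ≤ k) (s : SG G k), ∃ s' : SG G (k + d),
      down G (show m ≤ k + d by omega) s' = down G (show m ≤ k by omega) s := by
    intro m k d hk s
    induction d with
    | zero => exact ⟨s, rfl⟩
    | succ d ih =>
      obtain ⟨s', hs'⟩ := ih
      obtain ⟨s'', hs''⟩ := hst m (k + d) (by omega) s'
      exact ⟨s'', hs''.trans hs'⟩
  let Q : ∀ m, Set (SG G m) := fun m => {x | ∃ (k : ℕ) (hk : (n₀ + m) + (m + 1) ≤ k) (s : SG G k),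
    down G (show m ≤ k by omega) s = x}
  have hlift : ∀ m, ∀ x ∈ Q m, ∃ x' ∈ Q (m + 1), down G (Nat.le_succ m) x' = x := by
    rintro m _ ⟨k, hk, s, rfl⟩
    obtain ⟨s', hs'⟩ := hraise m k 2 hk s
    exact ⟨_, ⟨k + 2, by omega, s', rfl⟩, (down_down _ _ _).trans hs'⟩
  choose nx hnxQ hnx using hlift
  let z : ∀ i : ℕ, {x : SG G (m + i) // x ∈ Q (m + i)} := fun i => Nat.rec
    (motive := fun i => {x : SG G (m + i) // x ∈ Q (m + i)}) ⟨down G (show m ≤ k by omega) s, k, hk, s, rfl⟩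
    (fun i x => ⟨nx (m + i) x.1 x.2, hnxQ (m + i) x.1 x.2⟩) i
  refine ⟨⟨fun n => down G (show n ≤ m + n by omega) (z n).1, fun n => ?_⟩, ?_⟩
  · show down G (Nat.le_succ n) (down G (show n + 1 ≤ m + (n + 1) by omega) (z (n + 1)).1) =
      down G (show n ≤ m + n by omega) (z n).1
    rw [down_down, ← hnx (m + n) (z n).1 (z n).2, down_down]
  · show down G (show m ≤ m + m by omega) (z m).1 = _
    have hz : ∀ i, down G (Nat.le_add_right m i) (z i).1 = down G (show m ≤ k by omega) s := fun i => by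
      induction i with
      | zero => exact down_self _ _
      | succ i ih =>
        rw [← ih, ← hnx (m + i) (z i).1 (z i).2, down_down]
    exact hz m

include hfree hnzd hG in
theorem proj_eq_zero_imp (n : ℕ) (y : Lim G) (hy : y.1 n = 0) :
    ∃ z : Lim G, f ^ (n + 1) • z = y := by
  have h0 : ∀ w : Lim G, w.1 0 = 0 → ∃ z : Lim G, f • z = w ∧ ∀ i, secL (jmap hG i) (z.1 i) = w.1 (i + 1) := by
    intro w hw
    choose z hz using fun i => exists_eq_jmap hG hfree hnzd i (w.1 (i + 1)) ((Lim_down w _).trans hw)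
    have hfz : ∀ i, f • z i = w.1 i := fun i => by
      have e := down_jmap hG (le_refl i) (z i)
      rw [down_self, hz i] at e
      exact e.symm.trans (w.2 i)
    refine ⟨⟨z, fun i => jmap_injective hG hfree hnzd i ?_⟩, Subtype.ext (funext hfz), hz⟩
    refine Eq.trans ?_ ((w.2 (i + 1)).trans (hz i).symm)
    rw [← hz (i + 1)]
    refine (secL_comp _ _ _).symm.trans ((congrArg (fun φ => secL φ (z (i + 1))) (tr_jmap_succ hG i).symm).trans ?_)
    exact secL_comp _ _ _
  induction n generalizing y with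
  | zero =>
    obtain ⟨z, hz, -⟩ := h0 y hy
    exact ⟨z, by rw [pow_one]; exact hz⟩
  | succ n ih =>
    obtain ⟨z, hz, hz'⟩ := h0 y (by rw [← Lim_down y (Nat.zero_le (n + 1)), hy, map_zero])
    obtain ⟨w, hw⟩ := ih z (jmap_injective hG hfree hnzd n (by rw [hz', hy, map_zero]))
    exact ⟨w, by rw [pow_succ', mul_smul, hw, hz]⟩

include hfree hnzd hG in
theorem finite_Lim [IsAdicComplete (Ideal.span ({f} : Set A)) A] [Module.Finite A (SG G 0)] :
    Module.Finite A (Lim G) := by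
  set I := Ideal.span ({f} : Set A) with hI
  have hfI : f ∈ I := Ideal.mem_span_singleton_self f
  let p : Lim G →ₗ[A] SG G 0 := proj 0
  obtain ⟨T, hT⟩ := (isNoetherian_of_isNoetherianRing_of_finite A (SG G 0)).noetherian (LinearMap.range p)
  have hmem : ∀ s : T, (s : SG G 0) ∈ LinearMap.range p := fun s => hT ▸ Submodule.subset_span s.2
  choose g hg using hmem
  let L : (T → A) →ₗ[A] Lim G := Fintype.linearCombination A g
  have hstep : ∀ y : Lim G, ∃ (a : T → A) (y' : Lim G), y = L a + f • y' := by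
    intro y
    have h1 : p y ∈ Submodule.span A (T : Set (SG G 0)) := hT.symm ▸ LinearMap.mem_range_self p y
    obtain ⟨a, ha⟩ := (Submodule.mem_span_range_iff_exists_fun A (v := fun s : T => (s : SG G 0))).1
      (by simpa using h1)
    obtain ⟨y', hy'⟩ := proj_eq_zero_imp hG hfree hnzd 0 (y - L a) (by
      show p (y - L a) = 0
      rw [map_sub, sub_eq_zero, ← ha]
      simp only [L, Fintype.linearCombination_apply, map_sum, map_smul, hg])
    exact ⟨a, y', by rw [← pow_one f, hy', add_sub_cancel]⟩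
  choose α β hαβ using hstep
  haveI := CompleteLib.isAdicComplete_of_finite (I := I) (M := T → A)
  refine Module.Finite.of_surjective L fun y => ?_
  let r : ℕ → Lim G := fun k => β^[k] y
  let s : ℕ → (T → A) := fun k => ∑ j ∈ Finset.range k, f ^ j • α (r j)
  have hs : ∀ k, y = L (s k) + f ^ k • r k := by
    intro k
    induction k with
    | zero => simp [s, r]
    | succ k ih =>
      rw [ih]
      simp only [s, Finset.sum_range_succ, map_add, map_smul, add_assoc, pow_succ, mul_smul, ← smul_add]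
      congr 2
      show r k = L (α (r k)) + f • r (k + 1)
      simp only [r, Function.iterate_succ_apply']
      exact hαβ _
  obtain ⟨a, ha⟩ := IsPrecomplete.prec (inferInstance : IsPrecomplete I (T → A)) (f := s) fun {k l} hkl => by
    rw [SModEq.sub_mem, ← neg_sub (s l), Submodule.neg_mem_iff,
      show s l - s k = ∑ j ∈ Finset.Ico k l, f ^ j • α (r j) from (Finset.sum_Ico_eq_sub _ hkl).symm]
    exact Submodule.sum_mem _ fun j hj => Submodule.smul_mem_smul
      (Ideal.pow_le_pow_right (Finset.mem_Ico.1 hj).1 (Ideal.pow_mem_pow hfI j)) Submodule.mem_top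
  refine ⟨a, Subtype.ext (funext fun n => ?_)⟩
  have h1 := SModEq.sub_mem.1 (ha (n + 1))
  have h2 : (L (s (n + 1) - a)).1 n = 0 := by
    refine Submodule.smul_induction_on h1 (fun b hb v _ => ?_) (fun v w hv hw => ?_)
    · rw [map_smul]
      exact pow_smul_eq_zero hG n hb _
    · rw [map_add]
      exact (congrArg₂ (· + ·) hv hw).trans (add_zero _)
  rw [map_sub] at h2
  conv_rhs => rw [hs (n + 1)]
  show (L a).1 n = (L (s (n + 1))).1 n + f ^ (n + 1) • (r (n + 1)).1 n
  rw [pow_smul_eq_zero hG n (Ideal.pow_mem_pow hfI (n + 1)), add_zero]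
  exact (sub_eq_zero.1 h2).symm

end Formal2AlgzLib
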