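import Groth.Agent.LcFinLib.Main
import Groth.Agent.LocCohLib.Finiteness
import Mathlib.RingTheory.Ideal.MinimalPrime.Basic

/-!
# A power of `f` almost kills local cohomology of `A / f ^ n`
-/

set_option autoImplicit false
set_option linter.unusedSectionVars false
set_option maxHeartbeats 400000

noncomputable section

universe u

open CategoryTheory

attribute [local instance] HasDerivedCategory.standard

namespace Formal2AlgzLib

variable {A : Type u} [CommRing A] [IsNoetherianRing A] [IsLocalRing A]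

open IsLocalRing (maximalIdeal)

theorem krullDim_Icc_max (p : PrimeSpectrum A) :
    Order.krullDim (Set.Icc p (IsLocalRing.closedPoint A)) = ringKrullDim (A ⧸ p.asIdeal) := by
  refine (Order.krullDim_eq_of_orderIso ?_).symm
  refine p.asIdeal.primeSpectrumQuotientOrderIsoZeroLocus.trans (OrderIso.setCongr (PrimeSpectrum.zeroLocus (p.asIdeal : Set A))
    (Set.Icc p (IsLocalRing.closedPoint A)) (Set.ext fun q => ?_))
  rw [PrimeSpectrum.mem_zeroLocus, SetLike.coe_subset_coe, Set.mem_Icc]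
  exact ⟨fun h => ⟨h, IsLocalRing.le_maximalIdeal q.isPrime.ne_top⟩, fun h => h.1⟩

theorem zeroLocus_maximalIdeal :
    PrimeSpectrum.zeroLocus ((maximalIdeal A : Ideal A) : Set A) = {IsLocalRing.closedPoint A} := by
  refine Set.ext fun q => ⟨fun h => PrimeSpectrum.ext ((IsLocalRing.maximalIdeal.isMaximal A).eq_of_le
    q.isPrime.ne_top h).symm, ?_⟩
  rintro rfl
  exact fun a ha => ha

theorem smul_id_exact {x : A} (hx : x ∈ nonZeroDivisors A) :
    Function.Injective (x • (LinearMap.id : A →ₗ[A] A)) ∧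
      Function.Exact (x • (LinearMap.id : A →ₗ[A] A)) (Ideal.span ({x} : Set A)).mkQ ∧
      Function.Surjective (Ideal.span ({x} : Set A)).mkQ :=
  ⟨fun a b h => (mul_cancel_left_mem_nonZeroDivisors hx).1 h,
    fun a => (Submodule.Quotient.mk_eq_zero _).trans (Ideal.mem_span_singleton'.trans
      ⟨fun ⟨b, hb⟩ => ⟨b, by rw [← hb, mul_comm]; rfl⟩, fun ⟨b, hb⟩ => ⟨b, by rw [← hb, mul_comm]; rfl⟩⟩),
    Submodule.mkQ_surjective _⟩

theorem smul_H_quotient_eq_zero (I : Ideal A) {x : A} (hx : x ∈ nonZeroDivisors A) {J : Ideal A} (i : ℕ)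
    (hJ : ∀ j, j ≤ i + 1 → ∀ a ∈ J, ∀ z : LocCoh.H I j A, a • z = 0) {a : A}
    (ha : a ∈ J * J ⊔ Ideal.span ({x} : Set A)) (z : LocCoh.H I i (A ⧸ Ideal.span ({x} : Set A))) : a • z = 0 := by
  obtain ⟨hf, hfg, hg⟩ := smul_id_exact hx
  obtain ⟨b, hb, c, hc, rfl⟩ := Submodule.mem_sup.1 ha
  obtain ⟨d, rfl⟩ := Ideal.mem_span_singleton'.1 hc
  have h1 : J * J ≤ Module.annihilator A (LocCoh.H I i (A ⧸ Ideal.span ({x} : Set A))) :=
    (Ideal.mul_mono (fun a ha => Module.mem_annihilator.2 (hJ i (Nat.le_succ i) a ha))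
      (fun a ha => Module.mem_annihilator.2 (hJ (i + 1) le_rfl a ha))).trans
      (LocCohLib.annihilator_mul_le (LocCohLib.exact_Hδ (I := I) hf hfg hg i).2)
  have h2 : x • z = 0 := by
    rw [← LocCohLib.Hf_smul_id (I := I) x i]
    have h0 : x • (LinearMap.id : (A ⧸ Ideal.span ({x} : Set A)) →ₗ[A] _) = (0 : A) • LinearMap.id :=
      LinearMap.ext fun w => by
        obtain ⟨w, rfl⟩ := Submodule.mkQ_surjective _ w
        refine Eq.trans ?_ (zero_smul A ((Ideal.span ({x} : Set A)).mkQ w)).symm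
        refine ((map_smul (Ideal.span ({x} : Set A)).mkQ x w).symm).trans
          ((Submodule.Quotient.mk_eq_zero _).2 ?_)
        exact Ideal.mul_mem_right w _ (Ideal.mem_span_singleton_self x)
    rw [h0, LocCohLib.Hf_smul_id, zero_smul]
  rw [add_smul, mul_smul, h2, smul_zero, add_zero]
  exact Module.mem_annihilator.1 (h1 hb) z

variable {f : A} {ω : Dual.D A} (hω : Dual.IsDualizing A ω)
  (hf : f ∈ maximalIdeal A) (hnzd : f ∈ nonZeroDivisors A)

include hω in
theorem finite_H_one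
    (h₅ : ∀ (p : Ideal A) [p.IsPrime], f ∈ p → p ≠ maximalIdeal A →
      (1 : WithBot ℕ∞) < ((LocCoh.depth (Localization.AtPrime p)
          (LocalizedModule p.primeCompl (A ⧸ Ideal.span {f})) : ℕ∞) : WithBot ℕ∞) + ringKrullDim (A ⧸ p)) :
    Module.Finite A (LocCoh.H (maximalIdeal A) 1 (A ⧸ Ideal.span ({f} : Set A))) := by
  let T : Set (PrimeSpectrum A) := PrimeSpectrum.zeroLocus ((maximalIdeal A : Ideal A) : Set A)
  have hT : StableUnderSpecialization T := (PrimeSpectrum.isClosed_zeroLocus _).stableUnderSpecialization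
  obtain ⟨J, hJ, hk⟩ := LcFinLib.exists_ideal_kill hω (A ⧸ Ideal.span ({f} : Set A))
    (LcFinLib.lcGD (maximalIdeal A)) hT T hT 1 (fun p q hp hq hpq => by
      simp only [T, zeroLocus_maximalIdeal, Set.mem_singleton_iff] at hp hq
      subst hq
      rw [krullDim_Icc_max]
      by_cases hfp : f ∈ p.asIdeal
      · exact h₅ p.asIdeal hfp fun h => hp (PrimeSpectrum.ext h)
      · haveI : Subsingleton (LocalizedModule p.asIdeal.primeCompl (A ⧸ Ideal.span ({f} : Set A))) :=
          LocalizedModule.subsingleton_iff.2 fun m => ⟨f, hfp, by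
            obtain ⟨w, rfl⟩ := Submodule.mkQ_surjective _ m
            refine ((map_smul (Ideal.span ({f} : Set A)).mkQ f w).symm).trans
              ((Submodule.Quotient.mk_eq_zero _).2 ?_)
            exact Ideal.mul_mem_right w _ (Ideal.mem_span_singleton_self f)⟩
        rw [show LocCoh.depth (Localization.AtPrime p.asIdeal)
          (LocalizedModule p.asIdeal.primeCompl (A ⧸ Ideal.span ({f} : Set A))) = ⊤ from
          if_pos (Subsingleton.elim _ _)]
        have hd : (0 : WithBot ℕ∞) ≤ ringKrullDim (A ⧸ p.asIdeal) := ringKrullDim_nonneg_of_nontrivial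
        refine lt_of_lt_of_le ?_ (le_add_of_nonneg_right hd)
        exact WithBot.coe_lt_coe.2 (ENat.natCast_lt_top 1))
  haveI : Module.Finite A (ModuleCat.of A (A ⧸ Ideal.span ({f} : Set A))) :=
    inferInstanceAs (Module.Finite A (A ⧸ Ideal.span ({f} : Set A)))
  exact ((LcFinLib.lcGD (maximalIdeal A)).finite_iff_killed (ModuleCat.of A (A ⧸ Ideal.span ({f} : Set A))) 1).2
    ⟨J, hJ, hk⟩ 1 le_rfl

include hω hf hnzd in
/-- Modulo an ideal with radical `𝔪`, a power of `f` kills the second local cohomology of `A / f ^ (c + 2)`. -/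
theorem exists_kill
    (h₆ : ∀ (p : Ideal A) [p.IsPrime], f ∉ p →
      (∃ r : Ideal A, r.IsPrime ∧ p ≤ r ∧ f ∈ r ∧ r ≠ maximalIdeal A) →
      (3 : WithBot ℕ∞) < ((LocCoh.depth (Localization.AtPrime p) (Localization.AtPrime p) : ℕ∞) : WithBot ℕ∞) +
        ringKrullDim (A ⧸ p)) :
    ∃ (c : ℕ) (K : Ideal A), maximalIdeal A ≤ K.radical ∧
      ∀ a ∈ K, ∀ z : LocCoh.H (maximalIdeal A) 2 (A ⧸ Ideal.span ({f ^ (c + 2)} : Set A)),
        a • f ^ (c + 1) • z = 0 := by
  let T : Set (PrimeSpectrum A) := PrimeSpectrum.zeroLocus ((maximalIdeal A : Ideal A) : Set A)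
  let T' : Set (PrimeSpectrum A) := {p | f ∈ p.asIdeal ∨
    ∀ r : PrimeSpectrum A, p ≤ r → f ∈ r.asIdeal → r = IsLocalRing.closedPoint A}
  have hT : StableUnderSpecialization T := (PrimeSpectrum.isClosed_zeroLocus _).stableUnderSpecialization
  have hT' : StableUnderSpecialization T' := fun x y hxy hx => by
    have hle : x ≤ y := (PrimeSpectrum.le_iff_specializes x y).2 hxy
    exact hx.imp (fun h => hle h) fun h r hr => h r (hle.trans hr)
  obtain ⟨J, hJ, hk⟩ := LcFinLib.exists_ideal_kill hω A (LcFinLib.lcGD (maximalIdeal A)) hT T' hT' 3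
    (fun p q hp hq hpq => by
      simp only [T, zeroLocus_maximalIdeal, Set.mem_singleton_iff] at hq
      subst hq
      rw [krullDim_Icc_max]
      obtain ⟨hfp, hr⟩ := not_or.1 hp
      push Not at hr
      obtain ⟨r, hpr, hfr, hrm⟩ := hr
      exact h₆ p.asIdeal hfp ⟨r.asIdeal, r.isPrime, hpr, hfr, fun h => hrm (PrimeSpectrum.ext h)⟩)
  let col : ℕ →o Ideal A :=
    ⟨fun k => (J * J).colon {f ^ k}, monotone_nat_of_le_succ fun k a ha => Submodule.mem_colon_singleton.2 <| by
      have h : a • f ^ k ∈ J * J := Submodule.mem_colon_singleton.1 ha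
      rw [smul_eq_mul, pow_succ, ← mul_assoc]
      exact Ideal.mul_mem_right f _ h⟩
  obtain ⟨c₀, hc₀⟩ := monotone_stabilizes_iff_noetherian.2 (inferInstanceAs (IsNoetherian A A)) col
  refine ⟨c₀, col c₀ ⊔ Ideal.span {f}, ?_, fun a ha z => ?_⟩
  · rw [Ideal.radical_eq_sInf]
    refine le_sInf fun P ⟨hP, hPp⟩ => ?_
    by_contra hPm
    have hne : P ≠ maximalIdeal A := fun h => hPm h.ge
    have hfP : f ∈ P := hP (Ideal.mem_sup_right (Ideal.mem_span_singleton_self f))
    obtain ⟨p, hp, hpP⟩ := Ideal.exists_minimalPrimes_le (le_sup_left.trans hP : col c₀ ≤ P)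
    haveI := hp.1.1
    have hJp : J ≤ p := fun a ha => hp.1.1.mem_or_mem (show a * a ∈ p from hp.1.2
      (Submodule.mem_colon_singleton.2 (Ideal.mul_mem_right (f ^ c₀) _ (Ideal.mul_mem_mul ha ha)))) |>.elim id id
    rcases hJ (show (⟨p, hp.1.1⟩ : PrimeSpectrum A) ∈ PrimeSpectrum.zeroLocus (J : Set A) from hJp) with h | h
    · obtain ⟨y, hy, hfy⟩ := Ideal.exists_mul_mem_of_mem_minimalPrimes hp h
      refine hy ?_
      rw [hc₀ (c₀ + 1) (Nat.le_succ _)]
      refine Submodule.mem_colon_singleton.2 ?_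
      have h' : (f * y) • f ^ c₀ ∈ J * J := Submodule.mem_colon_singleton.1 hfy
      rw [smul_eq_mul, pow_succ']
      rw [smul_eq_mul] at h'
      convert h' using 1
      ring
    · exact hne (congrArg PrimeSpectrum.asIdeal (h ⟨P, hPp⟩ hpP hfP))
  · rw [smul_smul]
    refine smul_H_quotient_eq_zero _ (pow_mem hnzd _) 2 (fun j hj b hb w => hk j hj b hb w) ?_ z
    obtain ⟨b, hb, e, he, rfl⟩ := Submodule.mem_sup.1 ha
    obtain ⟨d, rfl⟩ := Ideal.mem_span_singleton'.1 he
    rw [add_mul]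
    refine Ideal.add_mem _ (Ideal.mem_sup_left ?_) (Ideal.mem_sup_right (Ideal.mem_span_singleton'.2 ⟨d, by ring⟩))
    have hb' : b • f ^ c₀ ∈ J * J := Submodule.mem_colon_singleton.1 hb
    rw [pow_succ, ← mul_assoc]
    exact Ideal.mul_mem_right f _ hb'

end Formal2AlgzLib
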