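import Groth.Agent.Formal2AlgzLib.Limit

/-!
# Obstructions of sections lift to every level
-/

set_option autoImplicit false
set_option linter.unusedSectionVars false
set_option maxRecDepth 8000

noncomputable section

universe u

open CategoryTheory CategoryTheory.Limits AlgebraicGeometry TopologicalSpace Opposite
open CohCmpLib (stk)
open Formal2VBLib (stalkHom hom_ext_stalk)

namespace Formal2AlgzLib

section Stalk

variable {A : Type u} [CommRing A] {X : Scheme.{u}} [X.Over (Spec (CommRingCat.of A))] {f : A}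
  {G : ℕᵒᵖ ⥤ X.Modules} (hG : Formal.IsCohFormal (Ideal.span ({f} : Set A)) G)

variable (G) in
/-- The map to a lower level. -/
abbrev dn {m k : ℕ} (h : m ≤ k) : Gn G k ⟶ Gn G m := G.map (homOfLE h).op

variable (G) in
theorem dn_comp {l m k : ℕ} (h : l ≤ m) (h' : m ≤ k) : dn G h' ≫ dn G h = dn G (h.trans h') :=
  (G.map_comp _ _).symm

theorem stalk_comp_apply {P Q R : X.Modules} (u : P ⟶ Q) (v : Q ⟶ R) (y : X) (a : stk P y) :
    ((DerSch.stalkFunctor X y).map (u ≫ v)).hom a =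
      ((DerSch.stalkFunctor X y).map v).hom (((DerSch.stalkFunctor X y).map u).hom a) := by
  rw [Functor.map_comp]
  rfl

variable (G) in
theorem stalk_dn_self {m : ℕ} (h : m ≤ m) (y : X) (a : stk (Gn G m) y) :
    ((DerSch.stalkFunctor X y).map (dn G h)).hom a = a := by
  rw [show dn G h = 𝟙 _ from G.map_id _, CategoryTheory.Functor.map_id]
  rfl

variable (G) in
theorem stalk_dn_dn {l m k : ℕ} (h : l ≤ m) (h' : m ≤ k) (y : X) (a : stk (Gn G k) y) :
    ((DerSch.stalkFunctor X y).map (dn G h)).hom (((DerSch.stalkFunctor X y).map (dn G h')).hom a) =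
      ((DerSch.stalkFunctor X y).map (dn G (h.trans h'))).hom a :=
  (stalk_comp_apply _ _ y a).symm.trans (by rw [dn_comp])

variable (G) in
theorem t0_eq_dn : ∀ k, t0 G k = dn G (Nat.zero_le k)
  | 0 => (G.map_id _).symm
  | k + 1 => by
    rw [t0, t0_eq_dn k]
    exact dn_comp G (Nat.zero_le k) (Nat.le_succ k)

include hG

theorem stalk_dn_surjective {m k : ℕ} (h : m ≤ k) (y : X) :
    Function.Surjective ((DerSch.stalkFunctor X y).map (dn G h)).hom := by
  induction k, h using Nat.le_induction with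
  | base => exact fun a => ⟨a, stalk_dn_self G le_rfl y a⟩
  | succ k hk ih =>
    intro a
    obtain ⟨b, rfl⟩ := ih a
    obtain ⟨c, rfl⟩ := stalk_tr_surjective hG k y b
    exact ⟨c, (stalk_dn_dn G hk (Nat.le_succ k) y c).symm⟩

theorem pow_smul_stalk_eq_zero (m : ℕ) (y : X) (a : stk (Gn G m) y) : stalkHom A y f ^ (m + 1) • a = 0 := by
  have h := congrArg (fun φ => ((DerSch.stalkFunctor X y).map φ).hom a)
    (hG.2.1 m (f ^ (m + 1)) (Ideal.pow_mem_pow (Ideal.mem_span_singleton_self f) _))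
  simp only [Formal.smulMod, Formal2VBLib.stalk_smulModΓ, Functor.map_zero] at h
  rw [← map_pow]
  exact h

theorem stalk_dn_eq_zero_iff {m k : ℕ} (h : m ≤ k) (y : X) : ∀ a : stk (Gn G k) y,
    ((DerSch.stalkFunctor X y).map (dn G h)).hom a = 0 ↔ ∃ b, stalkHom A y f ^ (m + 1) • b = a := by
  induction k, h using Nat.le_induction with
  | base =>
    intro a
    rw [stalk_dn_self]
    exact ⟨fun h => ⟨0, by rw [smul_zero, h]⟩, fun ⟨b, hb⟩ => by rw [← hb, pow_smul_stalk_eq_zero hG]⟩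
  | succ k hk ih =>
    intro a
    rw [← stalk_dn_dn G hk (Nat.le_succ k)]
    change ((DerSch.stalkFunctor X y).map (dn G hk)).hom (((DerSch.stalkFunctor X y).map (tr G k)).hom a) = 0 ↔ _
    rw [ih]
    constructor
    · rintro ⟨b, hb⟩
      obtain ⟨b', rfl⟩ := stalk_tr_surjective hG k y b
      rw [← map_smul, ← sub_eq_zero, ← map_sub, stalk_tr_eq_zero_iff hG] at hb
      obtain ⟨c, hc⟩ := hb
      refine ⟨b' - stalkHom A y f ^ (k - m) • c, ?_⟩
      rw [smul_sub, smul_smul, ← pow_add, show m + 1 + (k - m) = k + 1 by omega, hc, sub_sub_cancel]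
    · rintro ⟨b, rfl⟩
      exact ⟨_, (map_smul _ _ _).symm⟩

/-- Multiplication by `f ^ d`, as a map `G c ⟶ G (c + d)`. -/
def jit (c : ℕ) : ∀ d, Gn G c ⟶ Gn G (c + d)
  | 0 => 𝟙 _
  | d + 1 => jit c d ≫ jmap hG (c + d)

theorem stalk_jit (c : ℕ) : ∀ (d : ℕ) (y : X) (a : stk (Gn G (c + d)) y),
    ((DerSch.stalkFunctor X y).map (jit hG c d)).hom (((DerSch.stalkFunctor X y).map (dn G (Nat.le_add_right c d))).hom a) =
      stalkHom A y f ^ d • a
  | 0, y, a => by
    rw [pow_zero, one_smul, jit, CategoryTheory.Functor.map_id]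
    exact stalk_dn_self G _ y a
  | d + 1, y, a => by
    rw [jit, stalk_comp_apply]
    refine (congrArg (fun z => ((DerSch.stalkFunctor X y).map (jmap hG (c + d))).hom
      (((DerSch.stalkFunctor X y).map (jit hG c d)).hom z))
      (stalk_dn_dn G (Nat.le_add_right c d) (Nat.le_succ (c + d)) y a).symm).trans ?_
    rw [stalk_jit c d, map_smul]
    refine (congrArg (stalkHom A y f ^ d • ·) (stalk_jmap_tr hG (c + d) y a)).trans ?_
    rw [smul_smul, ← pow_succ]

theorem dn_iota (n : ℕ) : dn G (Nat.zero_le (n + 1)) ≫ iota hG n = Formal.smulMod A (Gn G (n + 1)) (f ^ (n + 1)) :=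
  hom_ext_stalk fun y a => by
    rw [stalk_comp_apply, Formal.smulMod, Formal2VBLib.stalk_smulModΓ, ← t0_eq_dn, stalk_iota_t0, ← map_pow]
    rfl

/-- The sequence `0 → G c → G (c + (n + 1)) → G n → 0`. -/
def shiftSeq (c n : ℕ) : ShortComplex X.Modules :=
  ShortComplex.mk (jit hG c (n + 1)) (dn G (show n ≤ c + (n + 1) by omega)) (hom_ext_stalk fun y x => by
    obtain ⟨a, rfl⟩ := stalk_dn_surjective hG (Nat.le_add_right c (n + 1)) y x
    rw [stalk_comp_apply, stalk_jit, Functor.map_zero, (stalk_dn_eq_zero_iff hG _ y _).2 ⟨a, rfl⟩]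
    rfl)

variable (hfree : ∀ n : ℕ, Formal2.IsFinLocFreeMod (Ideal.span ({f} : Set A)) (n + 1) (G.obj (op n)))
  (hreg : ∀ (y : X) (c : X.presheaf.stalk y), stalkHom A y f * c = 0 → c = 0)

include hfree hreg in
theorem shiftSeq_shortExact (c n : ℕ) : (shiftSeq hG c n).ShortExact :=
  { exact := exact_of_stalk _ fun y a ha => by
      obtain ⟨b, rfl⟩ := (stalk_dn_eq_zero_iff hG _ y a).1 ha
      exact ⟨_, stalk_jit hG c (n + 1) y b⟩
    mono_f := mono_of_stalk _ fun y x hx => by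
      obtain ⟨a, rfl⟩ := stalk_dn_surjective hG (Nat.le_add_right c (n + 1)) y x
      change ((DerSch.stalkFunctor X y).map (jit hG c (n + 1))).hom _ = 0 at hx
      rw [stalk_jit] at hx
      exact (stalk_dn_eq_zero_iff hG _ y a).2
        (exists_eq_pow_smul hfree hreg (c + (n + 1)) y (k := n + 1) (l := c + 1) (by omega) a hx)
    epi_g := Preadditive.epi_of_cancel_zero _ fun {K : X.Modules} (g : Gn G n ⟶ K) hg => hom_ext_stalk fun y a => by
      obtain ⟨b, rfl⟩ := stalk_dn_surjective hG (show n ≤ c + (n + 1) by omega) y a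
      have h0 : ∀ {P Q : X.Modules} (x : stk P y), ((DerSch.stalkFunctor X y).map (0 : P ⟶ Q)).hom x = 0 := fun x => by
        rw [Functor.map_zero]; rfl
      refine Eq.trans ?_ (h0 _).symm
      refine ((stalk_comp_apply _ _ y b).symm.trans (congrArg (fun φ => ((DerSch.stalkFunctor X y).map φ).hom b) hg)).trans ?_
      exact h0 b }

theorem shift_comm (c n : ℕ) :
    jit hG c (n + 1) ≫ dn G (show n + 1 ≤ c + (n + 1) by omega) = dn G (Nat.zero_le c) ≫ iota hG n :=
  hom_ext_stalk fun y x => by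
    obtain ⟨a, rfl⟩ := stalk_dn_surjective hG (Nat.le_add_right c (n + 1)) y x
    rw [stalk_comp_apply, stalk_comp_apply, stalk_jit, map_smul, stalk_dn_dn,
      ← stalk_dn_dn G (Nat.zero_le (n + 1)) (show n + 1 ≤ c + (n + 1) by omega), ← t0_eq_dn, stalk_iota_t0]

end Stalk

variable {A : Type u} [CommRing A] [IsNoetherianRing A] {𝔞 : Ideal A} {f : A}
  {G : ℕᵒᵖ ⥤ (PU 𝔞).Modules} (hG : Formal.IsCohFormal (Ideal.span ({f} : Set A)) G)
  (hfree : ∀ n : ℕ, Formal2.IsFinLocFreeMod (Ideal.span ({f} : Set A)) (n + 1) (G.obj (op n)))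
  (hnzd : f ∈ nonZeroDivisors A)

theorem hδ_map {T T' : ShortComplex (QCohLib.AbSh (PU 𝔞).toTopCat)} (hT : T.ShortExact) (hT' : T'.ShortExact) (φ : T ⟶ T')
    (p : ℕ) (x : Sheaf.H T.X₃ p) :
    AtlasCoh.hδ hT' p (Sheaf.H.map φ.τ₃ p x) = Sheaf.H.map φ.τ₁ (p + 1) (AtlasCoh.hδ hT p x) := by
  show (Abelian.Ext.comp x (Abelian.Ext.mk₀ φ.τ₃) (add_zero p)).comp hT'.extClass rfl =
    (Abelian.Ext.comp x hT.extClass rfl).comp (Abelian.Ext.mk₀ φ.τ₁) (add_zero (p + 1))
  rw [Abelian.Ext.comp_assoc_of_second_deg_zero, ← ShortComplex.ShortExact.extClass_naturality hT hT' φ,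
    Abelian.Ext.comp_assoc_of_third_deg_zero]

/-- An obstruction at the bottom is the image of an obstruction at any level. -/
theorem exists_δ_eq (c n : ℕ) (s : SG G n) : ∃ z : Coh.HH (PU 𝔞) (Gn G c) 1,
    AtlasCoh.hLin ((PU 𝔞) ↘ Spec (CommRingCat.of A)) (dn G (Nat.zero_le c)) 1 z = δ hG hfree hnzd n s := by
  have hr := fun y => isSMulRegular_stalkHom (𝔞 := 𝔞) hnzd y
  let T := (shiftSeq hG c n).map (QCohLib.toAbF (PU 𝔞))
  let T' := (levelSeq hG n).map (QCohLib.toAbF (PU 𝔞))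
  have hT : T.ShortExact := QCohLib.toAbF_shortExact (shiftSeq_shortExact hG hfree hr c n)
  have hT' : T'.ShortExact := QCohLib.toAbF_shortExact (levelSeq_shortExact hG hfree hr n)
  let φ : T ⟶ T' := (QCohLib.toAbF (PU 𝔞)).mapShortComplex.map
    (ShortComplex.homMk (S₁ := shiftSeq hG c n) (S₂ := levelSeq hG n) (dn G (Nat.zero_le c))
      (dn G (show n + 1 ≤ c + (n + 1) by omega)) (𝟙 _) (shift_comm hG c n).symm
      ((dn_comp G (Nat.le_succ n) _).trans (Category.comp_id _).symm))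
  refine ⟨AtlasCoh.hδ hT 0 ((Formal2VBLib.zeroΓ (Gn G n)).symm s), ?_⟩
  refine (hδ_map hT hT' φ 0 _).symm.trans ?_
  refine congrArg (AtlasCoh.hδ hT' 0) ?_
  rw [show φ.τ₃ = 𝟙 T.X₃ from (QCohLib.toAbF (PU 𝔞)).map_id _]
  exact Sheaf.H.map_id_apply _

include hG hfree hnzd in
/-- The images of the connecting maps stabilize as soon as a power of `f` has finite image. -/
theorem exists_stable_range (c : ℕ)
    (hfin : Module.Finite A
      (LinearMap.range ((f ^ (c + 1)) • (LinearMap.id : Coh.HH (PU 𝔞) (Gn G (c + 1)) 1 →ₗ[A] _)))) :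
    ∃ n₀, ∀ n, n₀ ≤ n → LinearMap.range (δ hG hfree hnzd n₀) = LinearMap.range (δ hG hfree hnzd n) := by
  have hmono : Monotone fun n => LinearMap.range (δ hG hfree hnzd n) := monotone_nat_of_le_succ fun n => by
    rintro _ ⟨s, rfl⟩
    exact ⟨secL (jmap hG n) s, δ_jmap hG hfree hnzd n s⟩
  let Φ : Coh.HH (PU 𝔞) (Gn G 0) 1 →ₗ[A] Coh.HH (PU 𝔞) (Gn G (c + 1)) 1 :=
    AtlasCoh.hLin ((PU 𝔞) ↘ Spec (CommRingCat.of A)) (iota hG c) 1
  let Q := LinearMap.range ((f ^ (c + 1)) • (LinearMap.id : Coh.HH (PU 𝔞) (Gn G (c + 1)) 1 →ₗ[A] _))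
  have hle : ∀ n, (LinearMap.range (δ hG hfree hnzd n)).map Φ ≤ Q := by
    rintro n _ ⟨_, ⟨s, rfl⟩, rfl⟩
    obtain ⟨z, hz⟩ := exists_δ_eq hG hfree hnzd (c + 1) n s
    refine ⟨z, ?_⟩
    rw [← hz]
    refine Eq.symm ?_
    refine (Sheaf.H.map_comp_apply _ _ _).symm.trans ?_
    rw [← Functor.map_comp, dn_iota]
    rfl
  haveI : IsNoetherian A Q := isNoetherian_of_isNoetherianRing_of_finite A Q
  obtain ⟨n₁, hn₁⟩ := monotone_stabilizes_iff_noetherian.2 ‹IsNoetherian A Q›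
    ⟨fun n => ((LinearMap.range (δ hG hfree hnzd n)).map Φ).comap Q.subtype,
      fun a b h => Submodule.comap_mono (Submodule.map_mono (hmono h))⟩
  refine ⟨max n₁ c, fun n hn => le_antisymm (hmono hn) fun x hx => ?_⟩
  have h1 := (hn₁ (max n₁ c) (le_max_left _ _)).symm.trans (hn₁ n ((le_max_left _ _).trans hn))
  have h2 : (⟨Φ x, hle n ⟨x, hx, rfl⟩⟩ : Q) ∈
      ((LinearMap.range (δ hG hfree hnzd n)).map Φ).comap Q.subtype := ⟨x, hx, rfl⟩
  obtain ⟨x', hx', hxx⟩ := h1.ge h2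
  obtain ⟨w, hw⟩ := AtlasCoh.hExact₁ (QCohLib.toAbF_shortExact
    (levelSeq_shortExact hG hfree (fun y => isSMulRegular_stalkHom hnzd y) c)) 0 (x - x')
    (show Φ (x - x') = 0 by rw [map_sub, sub_eq_zero]; exact hxx.symm)
  refine (sub_add_cancel x x') ▸ add_mem (hmono (le_max_right n₁ c) ⟨Formal2VBLib.zeroΓ (Gn G c) w, ?_⟩) hx'
  refine Eq.trans (congrArg (AtlasCoh.hδ _ 0) ((Formal2VBLib.zeroΓ (Gn G c)).symm_apply_apply w)) hw

include hG hfree hnzd in
/-- From some level on, images at a fixed level are stable, if the obstructions stabilize. -/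
theorem exists_threshold' {n₀ : ℕ}
    (hn₀ : ∀ n, n₀ ≤ n → LinearMap.range (δ hG hfree hnzd n₀) = LinearMap.range (δ hG hfree hnzd n))
    (m k : ℕ) (hk : (n₀ + m) + (m + 1) ≤ k) (s : SG G k) : ∃ s' : SG G (k + 1),
      down G (show m ≤ k + 1 by omega) s' = down G (show m ≤ k by omega) s := by
  obtain ⟨k', rfl⟩ : ∃ k', k = k' + (m + 1) := ⟨k - (m + 1), by omega⟩
  have hrange : LinearMap.range (δ hG hfree hnzd (k' + (m + 1))) = LinearMap.range (δ hG hfree hnzd k') :=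
    (hn₀ _ (by omega)).symm.trans (hn₀ k' (by omega))
  obtain ⟨u, hu⟩ := hrange ▸ LinearMap.mem_range_self (δ hG hfree hnzd (k' + (m + 1))) s
  obtain ⟨v, hv, hd⟩ := exists_shift hG hfree hnzd k' u (m + 1)
  obtain ⟨s', hs'⟩ := exists_lift_of_δ_eq_zero hG hfree hnzd _ (s - v) (by rw [map_sub, hv, hu, sub_self])
  refine ⟨s', ?_⟩
  rw [← down_down (show m ≤ k' + (m + 1) by omega) (Nat.le_succ _)]
  refine (congrArg (down G _) hs').trans ?_
  rw [map_sub, hd m (by omega),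
    pow_smul_eq_zero hG m (Ideal.pow_mem_pow (Ideal.mem_span_singleton_self f) (m + 1)), sub_zero]

end Formal2AlgzLib
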