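import Groth.Agent.Formal2AlgzLib.Main
import Groth.Agent.Formal2AlgzLib.Shift
import Groth.Agent.Formal2AlgzLib.LocalKill
import Groth.Agent.CanonModLib.Top
import Mathlib.RingTheory.Artinian.Module
import Mathlib.RingTheory.HopkinsLevitzki

/-!
# Algebraization of formal bundles on the punctured spectrum of a local ring
-/

set_option autoImplicit false
set_option linter.unusedSectionVars false
set_option maxRecDepth 8000

noncomputable section

universe u

open CategoryTheory CategoryTheory.Limits AlgebraicGeometry TopologicalSpace Opposite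
open KoszLib (Res)
open KoszLcLib (scal)
open Formal2VBLib (stalkHom)
open LocCohLib (Hf exact_Hf Hδ exact_Hδ)

attribute [local instance] HasDerivedCategory.standard

namespace Formal2AlgzLib

variable {A : Type u} [CommRing A]

theorem isFinLocFreeMod_of_pow_eq {X : Scheme.{u}} [X.Over (Spec (CommRingCat.of A))] {I J : Ideal A} {n m : ℕ}
    (h : I ^ n = J ^ m) {G : X.Modules} (hG : Formal2.IsFinLocFreeMod I n G) : Formal2.IsFinLocFreeMod J m G :=
  fun x => by
    obtain ⟨V, r, hx, ⟨e⟩⟩ := hG x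
    exact ⟨V, r, hx, ⟨e ≪≫ (Scheme.Modules.restrictFunctor V.ι).mapIso
      (eqToIso (show cokernel (Formal.smulFamily (I ^ n) (FlatMod.freeMod X r)) =
        cokernel (Formal.smulFamily (J ^ m) (FlatMod.freeMod X r)) by rw [h]))⟩⟩

variable [IsNoetherianRing A] {𝔞 : Ideal A}

/-- The finite module of sections with its local factorisations, without cohomological hypotheses. -/
theorem exists_model_factor {f : A} {G : (PU 𝔞).Modules} (hcoh : Coh.IsCoh G)
    (hkill : Formal.KilledBy (Ideal.span ({f} : Set A)) G)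
    (hfree : Formal2.IsFinLocFreeMod (Ideal.span ({f} : Set A)) 1 G) :
    ∃ M₀ : Submodule A (S G), Module.Finite A M₀ ∧ LocCoh.IsPowerTorsion 𝔞 (S G ⧸ M₀) ∧
      ∀ p : PrimeSpectrum A, ¬ 𝔞 ≤ p.asIdeal → ∃ g ∈ 𝔞, g ∉ p.asIdeal ∧
        ∃ (r k : ℕ) (ψ : (Fin r → A ⧸ Ideal.span ({f} : Set A)) →ₗ[A] M₀)
          (χ : M₀ →ₗ[A] (Fin r → A ⧸ Ideal.span ({f} : Set A))), ψ ∘ₗ χ = g ^ k • LinearMap.id := by
  obtain ⟨fs, hfs⟩ := LocCohLib.exists_list_span 𝔞
  obtain ⟨M₀, hfg, htor⟩ := KoszLcLib.exists_finite_sections 𝔞 fs hfs G hcoh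
  haveI : Module.Finite A M₀ := Module.Finite.iff_fg.2 hfg
  refine ⟨M₀, inferInstance, htor, fun p hp => ?_⟩
  obtain ⟨g, hg, hgy, r, m, hm⟩ := exists_global_presentation hcoh hfree M₀ htor ⟨p, hp⟩
  let N := A ⧸ Ideal.span ({f} : Set A)
  let ψl : Fin r → (N →ₗ[A] M₀) := fun l =>
    Submodule.liftQ _ (LinearMap.toSpanSingleton A M₀ (m l)) (by
      rw [Ideal.span, Submodule.span_singleton_le_iff_mem, LinearMap.mem_ker, LinearMap.toSpanSingleton_apply]
      exact Subtype.ext (smul_f_eq_zero hkill _))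
  let ψ : (Fin r → N) →ₗ[A] M₀ := ∑ l, ψl l ∘ₗ LinearMap.proj l
  have hψ : ∀ a : Fin r → A, (ψ fun l => Ideal.Quotient.mk _ (a l) : S G) = ∑ l, a l • (m l : S G) := fun a => by
    rw [LinearMap.sum_apply, Submodule.coe_sum]
    exact Finset.sum_congr rfl fun l _ => rfl
  have hA : ∀ x : M₀, ∃ k : ℕ, g ^ k • x ∈ LinearMap.range ψ := fun x => by
    obtain ⟨k, hk⟩ := exists_pow_smul_mem_span hcoh (fun l => (m l : S G)) (fun z hz => (hm z hz).1) hg (x : S G)
    obtain ⟨a, ha⟩ := (Submodule.mem_span_range_iff_exists_fun A).1 hk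
    exact ⟨k, fun l => Ideal.Quotient.mk _ (a l), Subtype.ext ((hψ a).trans ha)⟩
  have hB : ∀ v, ψ v = 0 → ∃ k : ℕ, g ^ k • v = 0 := fun v hv => by
    choose a ha using fun l => Ideal.Quotient.mk_surjective (v l)
    obtain rfl : v = fun l => Ideal.Quotient.mk _ (a l) := funext fun l => (ha l).symm
    choose k hk using fun l => exists_pow_mul_mem (f := f) hg (a l) fun z hz =>
      ((hm z hz).2 fun l => stalkHom A z (a l)).1 (by
        rw [Fintype.linearCombination_apply]
        refine (Finset.sum_congr rfl fun l _ => (gS_smul G z (a l) (m l : S G)).symm).trans ?_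
        rw [← map_sum, ← hψ, hv]
        exact map_zero _) l
    refine ⟨Finset.univ.sum k, funext fun l => ?_⟩
    change g ^ (Finset.univ.sum k) • Ideal.Quotient.mk _ (a l) = 0
    rw [← Nat.sub_add_cancel (Finset.single_le_sum (fun _ _ => Nat.zero_le _) (Finset.mem_univ l)), pow_add,
      mul_smul]
    refine (congrArg _ ?_).trans (smul_zero _)
    exact Ideal.Quotient.eq_zero_iff_mem.2 (hk l)
  obtain ⟨k, χ, hχ⟩ := exists_factor_of_presentation ψ g hA hB
  exact ⟨g, hg, hgy, r, k, ψ, χ, hχ⟩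

/-- Finiteness of sections needs only the first local cohomology module of `A / f`. -/
theorem finite_sections' {f : A} {G : (PU 𝔞).Modules} (hcoh : Coh.IsCoh G)
    (hkill : Formal.KilledBy (Ideal.span ({f} : Set A)) G)
    (hfree : Formal2.IsFinLocFreeMod (Ideal.span ({f} : Set A)) 1 G)
    (h₁ : Module.Finite A (LocCoh.H 𝔞 1 (A ⧸ Ideal.span ({f} : Set A)))) : Module.Finite A (S G) := by
  haveI : Coh.IsQCoh G := hcoh.1
  obtain ⟨M₀, hM₀, htor, hfac⟩ := exists_model_factor hcoh hkill hfree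
  haveI := finite_H_of_factor (N := A ⧸ Ideal.span ({f} : Set A)) 1 (fun i hi => by
    interval_cases i
    · exact LocCohLib.finite_H0
    · exact h₁) M₀ hfac 1 le_rfl
  have hS : Subsingleton (LocCoh.H 𝔞 0 (S G)) := by
    rw [(LocCohLib.H0Equiv 𝔞 (S G)).toEquiv.subsingleton_congr, Submodule.subsingleton_iff_eq_bot, eq_bot_iff]
    intro x hx
    obtain ⟨n, hn⟩ := hx
    refine (Submodule.mem_bot A).2 (eq_zero_of_gS G x fun y => ?_)
    obtain ⟨g, hg, hgy⟩ := Set.not_subset.1 (not_le_pr y)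
    have h := congrArg (gS G y) (hn (g ^ n) (Ideal.pow_mem_pow hg n))
    rw [gS_smul, map_zero] at h
    exact (isUnit_stalkHom fun h' => hgy ((pr y).isPrime.mem_of_pow_mem n h')).smul_eq_zero.1 h
  have hinj : Function.Injective (Hδ (I := 𝔞) M₀.injective_subtype (LinearMap.exact_subtype_mkQ M₀)
      M₀.mkQ_surjective 0) := (injective_iff_map_eq_zero _).2 fun x hx => by
    obtain ⟨w, rfl⟩ := ((exact_Hδ M₀.injective_subtype (LinearMap.exact_subtype_mkQ M₀) M₀.mkQ_surjective 0).2 x).1 hx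
    rw [Subsingleton.elim w 0, map_zero]
  haveI : Module.Finite A (LocCoh.H 𝔞 0 (S G ⧸ M₀)) := Module.Finite.of_injective _ hinj
  obtain ⟨e⟩ := LocCohLib.H0Equiv_of_torsion 𝔞 (S G ⧸ M₀) htor
  haveI := Module.Finite.equiv e
  exact Module.Finite.of_submodule_quotient M₀

variable [IsLocalRing A]

open IsLocalRing (maximalIdeal)

theorem finite_of_isArtinian_of_kill {Q : Type u} [AddCommGroup Q] [Module A Q] [IsArtinian A Q] {K : Ideal A}
    (hK : maximalIdeal A ≤ K.radical) (hkill : ∀ a ∈ K, ∀ x : Q, a • x = 0) : Module.Finite A Q := by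
  have hann : Module.annihilator A Q ≥ K := fun a ha => Module.mem_annihilator.2 (hkill a ha)
  let R := A ⧸ K
  letI : Module R Q := Module.IsTorsionBySet.module
    (show Module.IsTorsionBySet A Q (K : Set A) from fun x a => hkill a.1 a.2 x)
  haveI : IsScalarTower A R Q := Module.IsTorsionBySet.isScalarTower _
  haveI : IsArtinian R Q := isArtinian_of_tower A inferInstance
  haveI : IsArtinianRing R := by
    refine isArtinianRing_iff_krullDimLE_zero.2 (Ring.krullDimLE_zero_iff.2 fun P hP => ?_)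
    have hc : P.comap (Ideal.Quotient.mk K) = maximalIdeal A :=
      le_antisymm (IsLocalRing.le_maximalIdeal (Ideal.IsPrime.comap _).ne_top)
        (hK.trans ((Ideal.IsPrime.comap _).radical_le_iff.2 fun a ha =>
          show Ideal.Quotient.mk K a ∈ P by rw [Ideal.Quotient.eq_zero_iff_mem.2 ha]; exact zero_mem _))
    rw [← Ideal.map_comap_of_surjective _ Ideal.Quotient.mk_surjective P, hc]
    exact (Ideal.map_eq_top_or_isMaximal_of_surjective _ Ideal.Quotient.mk_surjective
      (IsLocalRing.maximalIdeal.isMaximal A)).resolve_left fun h => hP.ne_top (by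
        rw [← Ideal.map_comap_of_surjective _ Ideal.Quotient.mk_surjective P, hc, h])
  haveI : IsNoetherian R Q := (IsSemiprimaryRing.isNoetherian_iff_isArtinian (R := R) (M := Q)).2 inferInstance
  exact Module.Finite.trans R Q

theorem Hf_eq_zero_of_pi {N : Type u} [AddCommGroup N] [Module A N] {r : ℕ} (s : A)
    (h : ∀ z : LocCoh.H (maximalIdeal A) 2 N, s • z = 0) (y : LocCoh.H (maximalIdeal A) 2 (Fin r → N)) :
    s • y = 0 := by
  classical
  have e : (LinearMap.id : (Fin r → N) →ₗ[A] (Fin r → N)) =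
      ∑ j : Fin r, LinearMap.single A (fun _ : Fin r => N) j ∘ₗ LinearMap.proj j :=
    LinearMap.ext fun v => by simp [LinearMap.sum_apply, Finset.univ_sum_single]
  rw [← CanonModLib.Hf_id (n := 2) y, e, CanonModLib.Hf_sum, Finset.smul_sum]
  refine Finset.sum_eq_zero fun j _ => ?_
  rw [LocCohLib.Hf_comp, ← map_smul, h, map_zero]

/-- A multiple of the cohomology is finite when it is killed on the model. -/
theorem finite_range_smul_HH {f s : A} {G : (PU (maximalIdeal A)).Modules} (hcoh : Coh.IsCoh G)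
    (hkill : Formal.KilledBy (Ideal.span ({f} : Set A)) G)
    (hfree : Formal2.IsFinLocFreeMod (Ideal.span ({f} : Set A)) 1 G) {K : Ideal A}
    (hK : maximalIdeal A ≤ K.radical)
    (hz : ∀ a ∈ K, ∀ z : LocCoh.H (maximalIdeal A) 2 (A ⧸ Ideal.span ({f} : Set A)), a • s • z = 0) :
    Module.Finite A (LinearMap.range (s • (LinearMap.id : Coh.HH (PU (maximalIdeal A)) G 1 →ₗ[A] _))) := by
  haveI : Coh.IsQCoh G := hcoh.1
  haveI : NoetherianSpace (PU (maximalIdeal A)) :=
    (LocCoh.puncturedOpen A (maximalIdeal A)).ι.isOpenEmbedding.isInducing.noetherianSpace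
  obtain ⟨M₀, hM₀, htor, hfac⟩ := exists_model_factor hcoh hkill hfree
  obtain ⟨fs, hfs⟩ := LocCohLib.exists_list_span (maximalIdeal A)
  obtain ⟨e, he⟩ := KoszLcLib.exists_linearEquiv G (scal (maximalIdeal A)) fs
    (fun i => KoszLcLib.isAffineOpen_scal (maximalIdeal A) (hfs ▸ Ideal.subset_span (List.get_mem fs i)))
    (KoszLcLib.iSup_scal (maximalIdeal A) fs hfs) 0
  obtain ⟨l⟩ := KoszLcLib.nonempty_H_equiv fs (maximalIdeal A) hfs (S G) 2
  let e' : Coh.HH (PU (maximalIdeal A)) G 1 ≃ₗ[A] CohIII.koszulHLim fs (ModuleCat.of A (S G)) 2 :=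
    { e with map_smul' := fun a x => he a x }
  haveI := LocCohLib.subsingleton_H_of_torsion (I := maximalIdeal A) _ htor 2 (by omega)
  have hsur : Function.Surjective (Hf (maximalIdeal A) 2 M₀.subtype) := fun y =>
    ((exact_Hf M₀.injective_subtype (LinearMap.exact_subtype_mkQ M₀) M₀.mkQ_surjective 2) y).1 (Subsingleton.elim _ _)
  let π := (e'.trans l.symm).symm.toLinearMap ∘ₗ Hf (maximalIdeal A) 2 M₀.subtype
  have hπ : Function.Surjective π := (e'.trans l.symm).symm.surjective.comp hsur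
  haveI := KoszLcLib.isArtinian_HH G hcoh 0
  haveI : IsArtinian A (LinearMap.range (s • (LinearMap.id : Coh.HH (PU (maximalIdeal A)) G 1 →ₗ[A] _))) :=
    inferInstance
  let J : Ideal A := Module.annihilator A
    (LinearMap.range (s • (LinearMap.id : Coh.HH (PU (maximalIdeal A)) G 1 →ₗ[A] _)))
  refine finite_of_isArtinian_of_kill (K := J) ?_ fun a ha x => Module.mem_annihilator.1 ha x
  rw [Ideal.radical_eq_sInf]
  refine le_sInf fun P ⟨hP, hPp⟩ => ?_
  by_contra hPm
  obtain ⟨g, hg, hgP, r, k, ψ, χ, hψχ⟩ := hfac ⟨P, hPp⟩ hPm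
  obtain ⟨k', hk'⟩ := hK hg
  refine hgP (hPp.mem_of_pow_mem (k' + k) (hP (Module.mem_annihilator.2 ?_)))
  rintro ⟨_, x, rfl⟩
  obtain ⟨y, rfl⟩ := hπ x
  refine Subtype.ext ?_
  change g ^ (k' + k) • s • π y = 0
  rw [← map_smul, ← map_smul]
  suffices h : g ^ (k' + k) • s • y = 0 by rw [h, map_zero]
  have h0 : ∀ v, (g ^ k' * s) • v = (0 : LocCoh.H (maximalIdeal A) 2 (Fin r → A ⧸ Ideal.span ({f} : Set A))) :=
    Hf_eq_zero_of_pi (g ^ k' * s) fun z => by rw [mul_smul]; exact hz _ hk' z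
  rw [pow_add, smul_smul, mul_assoc, mul_comm (g ^ k) s, ← mul_assoc, mul_smul,
    ← LocCohLib.Hf_smul_id (I := maximalIdeal A) (g ^ k) 2 y, ← hψχ, LocCohLib.Hf_comp, ← map_smul, h0, map_zero]

variable {f : A} {G : ℕᵒᵖ ⥤ (PU (maximalIdeal A)).Modules}
  (hG : Formal.IsCohFormal (Ideal.span ({f} : Set A)) G)
  (hfree : ∀ n : ℕ, Formal2.IsFinLocFreeMod (Ideal.span ({f} : Set A)) (n + 1) (G.obj (op n)))
  (hnzd : f ∈ nonZeroDivisors A)

include hfree hnzd hG in
/-- Algebraization on the punctured spectrum of a local ring. -/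
theorem exists_completion_iso_local [IsAdicComplete (Ideal.span ({f} : Set A)) A]
    (h₁ : Module.Finite A (LocCoh.H (maximalIdeal A) 1 (A ⧸ Ideal.span ({f} : Set A))))
    {c : ℕ} {K : Ideal A} (hK : maximalIdeal A ≤ K.radical)
    (hz : ∀ a ∈ K, ∀ z : LocCoh.H (maximalIdeal A) 2 (A ⧸ Ideal.span ({f ^ (c + 2)} : Set A)),
        a • f ^ (c + 1) • z = 0) :
    ∃ F : (PU (maximalIdeal A)).Modules, Coh.IsCoh F ∧
      Nonempty (Formal.completion (Ideal.span ({f} : Set A)) F ≅ G) := by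
  have hk0 : Formal.KilledBy (Ideal.span ({f} : Set A)) (Gn G 0) := fun a ha => hG.2.1 0 a (by rwa [zero_add, pow_one])
  haveI := finite_sections' (hG.1 0) hk0 (hfree 0) h₁
  haveI := finite_Lim hG hfree hnzd
  have hpow : Ideal.span ({f} : Set A) ^ (c + 1 + 1) = Ideal.span ({f ^ (c + 2)} : Set A) ^ 1 := by
    rw [pow_one, Ideal.span_singleton_pow]
  have hfin := finite_range_smul_HH (G := Gn G (c + 1)) (hG.1 (c + 1))
    (fun a ha => hG.2.1 (c + 1) a (by rw [hpow, pow_one]; exact ha))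
    (isFinLocFreeMod_of_pow_eq hpow (hfree (c + 1))) hK hz
  obtain ⟨n₀, hn₀⟩ := exists_stable_range hG hfree hnzd c hfin
  have hst := exists_threshold' hG hfree hnzd hn₀
  refine ⟨FM (maximalIdeal A) (ModuleCat.of A (Lim G)), (Groth.Agent.S2269.result A _ _).2
    ⟨Lim G, inferInstance, inferInstance, inferInstance, ⟨Iso.refl _⟩⟩, ?_⟩
  let φ : Formal.completion (Ideal.span ({f} : Set A)) (FM (maximalIdeal A) (ModuleCat.of A (Lim G))) ⟶ G :=
    NatTrans.ofOpSequence (fun n => θ hG n) fun n => by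
      rw [show (Formal.completion (Ideal.span ({f} : Set A)) (FM (maximalIdeal A) (ModuleCat.of A (Lim G)))).map
        (homOfLE (Nat.le_add_right n 1)).op = Formal.modPowTrans (Ideal.span ({f} : Set A)) (n + 1) _ from
        Functor.ofOpSequence_map_homOfLE_succ _ n]
      refine (cancel_epi (Formal.modPowπ (Ideal.span ({f} : Set A)) (n + 1 + 1) _)).1 ?_
      refine ((Category.assoc _ _ _).symm.trans ((congrArg (· ≫ θ hG n) (Formal.modPowπ_trans _ (n + 1) _)).trans
        (π_θ hG n))).trans ?_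
      exact ((Category.assoc _ _ _).symm.trans ((congrArg (· ≫ tr G n) (π_θ hG (n + 1))).trans (ΘG_tr n))).symm
  haveI : ∀ x, IsIso (φ.app x) := fun x => isIso_θ hG hfree hnzd hst x.unop
  haveI : IsIso φ := NatIso.isIso_of_isIso_app φ
  exact ⟨asIso φ⟩

end Formal2AlgzLib
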