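import Groth.Agent.Formal2AlgzLib.Limit
import Groth.Agent.Formal2VBLib.Punct
import Groth.Agent.KFlatLib.Stalk
import Groth.Agent.S2269

/-!
# Algebraization of formal bundles along a nonzerodivisor on a punctured spectrum
-/

set_option autoImplicit false
set_option linter.unusedSectionVars false
set_option maxRecDepth 8000

noncomputable section

universe u

open CategoryTheory CategoryTheory.Limits AlgebraicGeometry TopologicalSpace Opposite
open CohCmpLib (stk)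
open ProjFormLib (ger res ger_res)
open KoszLcLib (scal)
open Formal2VBLib (stalkHom)

namespace Formal2AlgzLib

variable {A : Type u} [CommRing A] {𝔞 : Ideal A}

variable (𝔞) in
/-- `M ↦ M~|_U` is left adjoint to sections. -/
def adjU : Formal2VBLib.restrTilde (LocCoh.puncturedOpen A 𝔞) ⊣
    (Scheme.Modules.pushforward (LocCoh.puncturedOpen A 𝔞).ι ⋙ moduleSpecΓFunctor (R := CommRingCat.of A)) :=
  (tilde.adjunction (R := CommRingCat.of A)).comp (Scheme.Modules.restrictAdjunction (LocCoh.puncturedOpen A 𝔞).ι)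

variable (𝔞) in
/-- The sheaf of a module on the punctured spectrum. -/
abbrev FM (M : ModuleCat.{u} A) : (PU 𝔞).Modules :=
  (Formal2VBLib.restrTilde (LocCoh.puncturedOpen A 𝔞)).obj M

/-- Sections of the push-forward as a module. -/
def ΓP (P : (PU 𝔞).Modules) : ModuleCat.{u} A :=
  (Scheme.Modules.pushforward (LocCoh.puncturedOpen A 𝔞).ι ⋙ moduleSpecΓFunctor (R := CommRingCat.of A)).obj P

theorem smul_ΓP (P : (PU 𝔞).Modules) (a : A) (x : ΓP P) :
    (show S P from a • x) = a • (show S P from x) := by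
  rfl

/-- A linear map into sections, as a map to the sections of the push-forward. -/
def toΓ {M : ModuleCat.{u} A} {P : (PU 𝔞).Modules} (φ : M →ₗ[A] S P) : M ⟶ ΓP P :=
  @ModuleCat.ofHom A _ M (ΓP P) _ _ _ _
    ({ toFun := fun m => (show ΓP P from φ m)
       map_add' := fun m m' => map_add φ m m'
       map_smul' := fun a m => (map_smul φ a m).trans (smul_ΓP P a (φ m)).symm } : M →ₗ[A] ΓP P)

/-- The morphism out of `M~|_U` given on sections. -/
def Θ {M : ModuleCat.{u} A} {P : (PU 𝔞).Modules} (φ : M →ₗ[A] S P) : FM 𝔞 M ⟶ P :=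
  ((adjU 𝔞).homEquiv M P).symm (toΓ φ)

/-- The unit, into `ΓP`. -/
def unitΓ (M : ModuleCat.{u} A) : M ⟶ ΓP (FM 𝔞 M) := (adjU 𝔞).unit.app M

/-- The sections coming from the module. -/
def toF (M : ModuleCat.{u} A) : M →ₗ[A] S (FM 𝔞 M) where
  toFun m := (show S (FM 𝔞 M) from (unitΓ M).hom m)
  map_add' m m' := map_add (unitΓ M).hom m m'
  map_smul' a m := (map_smul (unitΓ M).hom a m).trans (smul_ΓP _ a _)

/-- A morphism, on `ΓP`. -/
def mapΓ {P Q : (PU 𝔞).Modules} (g : P ⟶ Q) : ΓP P ⟶ ΓP Q :=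
  (Scheme.Modules.pushforward (LocCoh.puncturedOpen A 𝔞).ι ⋙ moduleSpecΓFunctor (R := CommRingCat.of A)).map g

theorem mapΓ_apply {P Q : (PU 𝔞).Modules} (g : P ⟶ Q) (x : ΓP P) :
    (show S Q from (mapΓ g).hom x) = secL g (show S P from x) := by
  rfl

theorem secL_Θ_toF {M : ModuleCat.{u} A} {P : (PU 𝔞).Modules} (φ : M →ₗ[A] S P) (m : M) :
    secL (Θ φ) (toF M m) = φ m := by
  have h : unitΓ M ≫ mapΓ (Θ φ) = toΓ φ := by
    have h := ((adjU 𝔞).homEquiv M P).apply_symm_apply (toΓ φ)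
    rw [Adjunction.homEquiv_unit] at h
    exact h
  refine (mapΓ_apply (Θ φ) ((unitΓ M).hom m)).symm.trans ?_
  exact LinearMap.congr_fun (congrArg ModuleCat.Hom.hom h) m

theorem Θ_comp {M : ModuleCat.{u} A} {P Q : (PU 𝔞).Modules} (φ : M →ₗ[A] S P) (g : P ⟶ Q) :
    Θ φ ≫ g = Θ (secL g ∘ₗ φ) := by
  refine ((adjU 𝔞).homEquiv_naturality_right_symm (toΓ φ) g).symm.trans ?_
  refine congrArg ((adjU 𝔞).homEquiv M Q).symm ?_
  change toΓ φ ≫ mapΓ g = toΓ (secL g ∘ₗ φ)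
  exact ModuleCat.hom_ext (LinearMap.ext fun m => mapΓ_apply g ((toΓ φ).hom m))

theorem exists_pow_smul_eq_toOpen {R : CommRingCat.{u}} (M : ModuleCat.{u} R) (h : R)
    (x : Γ(tilde M, PrimeSpectrum.basicOpen h)) :
    ∃ (m : M) (k : ℕ), h ^ k • x = (tilde.toOpen M (PrimeSpectrum.basicOpen h)).hom m := by
  obtain ⟨⟨m, ⟨_, k, rfl⟩⟩, hm⟩ :=
    IsLocalizedModule.surj (Submonoid.powers h) (tilde.toOpen M (PrimeSpectrum.basicOpen h)).hom x
  exact ⟨m, k, hm⟩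

theorem exists_res_smul_eq {R : CommRingCat.{u}} (M : ModuleCat.{u} R) (h : R) (U V : (Spec R).Opens)
    (hU : (PrimeSpectrum.basicOpen h : (Spec R).Opens) ≤ U) (hV : V ≤ (PrimeSpectrum.basicOpen h : (Spec R).Opens))
    (s : Γ(tilde M, U)) :
    ∃ (m : M) (k : ℕ), (tilde M).presheaf.map (homOfLE (hV.trans hU)).op
        ((Spec R).presheaf.map (homOfLE (le_top : U ≤ ⊤)).op ((Scheme.ΓSpecIso R).inv (h ^ k)) • s) =
      (tilde M).presheaf.map (homOfLE (le_top : V ≤ ⊤)).op ((tilde.toOpen M ⊤).hom m) := by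
  obtain ⟨m, k, hmk⟩ := exists_pow_smul_eq_toOpen M h ((tilde M).presheaf.map (homOfLE hU).op s)
  refine ⟨m, k, ?_⟩
  have e1 : (tilde M).presheaf.map (homOfLE hU).op (h ^ k • s) =
      (tilde.toOpen M (PrimeSpectrum.basicOpen h)).hom m :=
    (Scheme.Modules.map_smul_Spec _ _ _).trans hmk
  have e2 := congrArg ((tilde M).presheaf.map (homOfLE hV).op) e1
  refine ((QCohLib.map_map' (tilde M) (homOfLE hV) (homOfLE hU) _).symm.trans e2).trans ?_
  refine Eq.trans ?_ (QCohLib.map_map' (tilde M) (homOfLE hV) (homOfLE (le_top :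
    (PrimeSpectrum.basicOpen h : (Spec R).Opens) ≤ ⊤)) _)
  rfl

theorem exists_smul_eq_gS_toF [IsNoetherianRing A] (M : ModuleCat.{u} A) [Module.Finite A M] (y : PU 𝔞) (a : stk (FM 𝔞 M) y) :
    ∃ g : A, g ∉ (pr y).asIdeal ∧ ∃ m : M, gS (FM 𝔞 M) y (toF M m) = stalkHom A y g • a := by
  let U := LocCoh.puncturedOpen A 𝔞
  haveI : Coh.IsQCoh (FM 𝔞 M) :=
    ((Groth.Agent.S2269.result A _ _).2 ⟨M, inferInstance, inferInstance, inferInstance, ⟨Iso.refl _⟩⟩ :
      Coh.IsCoh (FM 𝔞 M)).1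
  obtain ⟨g₁, -, hg₁, s, hs⟩ := exists_smul_eq_gS (FM 𝔞 M) y a
  obtain ⟨h, hha, hhy⟩ := Set.not_subset.1 (not_le_pr y)
  let D : (Spec (CommRingCat.of A)).Opens := PrimeSpectrum.basicOpen h
  have hDU : D ≤ U.ι ''ᵁ ⊤ := (KoszLcLib.basicOpen_le 𝔞 hha).trans U.ι_image_top.ge
  let s' : Γ(tilde (R := CommRingCat.of A) M, U.ι ''ᵁ ⊤) := s
  have hWD : U.ι ''ᵁ (U.ι ⁻¹ᵁ D) ≤ D := U.ι.image_preimage_le D
  obtain ⟨m, k, hmk⟩ := exists_res_smul_eq (R := CommRingCat.of A) M h (U.ι ''ᵁ ⊤) (U.ι ''ᵁ (U.ι ⁻¹ᵁ D)) hDU hWD s'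
  refine ⟨h ^ k * g₁, fun e => ((pr y).isPrime.mem_or_mem e).elim
    (fun e' => hhy ((pr y).isPrime.mem_of_pow_mem k e')) hg₁, m, ?_⟩
  rw [map_mul, mul_smul, ← hs, ← gS_smul]
  let W : (PU 𝔞).Opens := U.ι ⁻¹ᵁ D
  have hyW : y ∈ W := hhy
  refine (ger_res (FM 𝔞 M) (le_top : W ≤ ⊤) y hyW (toF M m)).symm.trans
    (Eq.trans (congrArg (ger (FM 𝔞 M) y hyW) ?_) (ger_res (FM 𝔞 M) (le_top : W ≤ ⊤) y hyW (h ^ k • s : S (FM 𝔞 M))))
  have hsm : (h ^ k • s : S (FM 𝔞 M)) = ((Formal.smulModΓ (FM 𝔞 M) (scal 𝔞 (h ^ k))).app ⊤ s : S (FM 𝔞 M)) :=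
    (secL_smulMod (FM 𝔞 M) (h ^ k) s).symm
  have hsm2 : ((Formal.smulModΓ (FM 𝔞 M) (scal 𝔞 (h ^ k))).app ⊤ s : S (FM 𝔞 M)) =
      ((Scheme.Modules.restrictFunctor U.ι).map (Formal.smulModΓ (tilde (R := CommRingCat.of A) M)
        ((Scheme.ΓSpecIso (CommRingCat.of A)).inv (h ^ k)))).app ⊤ s :=
    (congr($(congrArg (fun φ => Scheme.Modules.Hom.app φ ⊤) (Formal2VBLib.restrict_smulModΓ U.ι
      (tilde (R := CommRingCat.of A) M) ((Scheme.ΓSpecIso (CommRingCat.of A)).inv (h ^ k)))) s)).symm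
  rw [hsm, hsm2]
  refine Eq.trans ?_ (hmk.symm.trans rfl)
  exact congr($(((tilde (R := CommRingCat.of A) M).presheaf.map_comp (homOfLE (le_top : U.ι ''ᵁ ⊤ ≤ ⊤)).op
    (homOfLE (Scheme.Hom.image_mono U.ι (le_top : W ≤ ⊤))).op).symm) ((tilde.toOpen (R := CommRingCat.of A) M ⊤).hom m))

variable [IsNoetherianRing A] {f : A} {G : ℕᵒᵖ ⥤ (PU 𝔞).Modules}
  (hG : Formal.IsCohFormal (Ideal.span ({f} : Set A)) G)
  (hfree : ∀ n : ℕ, Formal2.IsFinLocFreeMod (Ideal.span ({f} : Set A)) (n + 1) (G.obj (op n)))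
  (hnzd : f ∈ nonZeroDivisors A)

include hG in
theorem stalk_down_surjective {m k : ℕ} (h : m ≤ k) (y : PU 𝔞) :
    Function.Surjective ((DerSch.stalkFunctor (PU 𝔞) y).map (G.map (homOfLE h).op)).hom := by
  induction k, h using Nat.le_induction with
  | base =>
    intro a
    refine ⟨a, ?_⟩
    rw [show G.map (homOfLE (le_refl m)).op = 𝟙 _ from G.map_id _, CategoryTheory.Functor.map_id]
    rfl
  | succ k hk ih =>
    rw [show G.map (homOfLE (Nat.le_succ_of_le hk)).op = tr G k ≫ G.map (homOfLE hk).op from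
      (by rw [← G.map_comp]; rfl), Functor.map_comp]
    exact ih.comp (stalk_tr_surjective hG k y)

variable (G) in
/-- `F → G n`. -/
def ΘG (n : ℕ) : FM 𝔞 (ModuleCat.of A (Lim G)) ⟶ Gn G n := Θ (M := ModuleCat.of A (Lim G)) (proj n)

theorem ΘG_tr (n : ℕ) : ΘG G (n + 1) ≫ tr G n = ΘG G n := by
  rw [ΘG, Θ_comp]
  exact congrArg Θ (LinearMap.ext fun y => y.2 n)

include hG in
theorem smulFamily_ΘG (n : ℕ) :
    Formal.smulFamily ((Ideal.span ({f} : Set A)) ^ (n + 1)) (FM 𝔞 (ModuleCat.of A (Lim G))) ≫ ΘG G n = 0 :=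
  Formal2VBLib.smulFamily_comp_eq_zero _ _ fun a ha => by
    rw [Formal.smulMod, Formal2VBLib.smulModΓ_naturality]
    exact (congrArg (ΘG G n ≫ ·) (hG.2.1 n a ha)).trans comp_zero

/-- `F / f ^ (n + 1) F → G n`. -/
def θ (n : ℕ) : Formal.modPow (Ideal.span ({f} : Set A)) (n + 1) (FM 𝔞 (ModuleCat.of A (Lim G))) ⟶ Gn G n :=
  cokernel.desc _ (ΘG G n) (smulFamily_ΘG hG n)

theorem π_θ (n : ℕ) : Formal.modPowπ (Ideal.span ({f} : Set A)) (n + 1) _ ≫ θ hG n = ΘG G n :=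
  cokernel.π_desc _ _ _

include hfree hnzd in
theorem isIso_θ [Module.Finite A (Lim G)] {n₀ : ℕ}
    (hst : ∀ (m k : ℕ) (hk : (n₀ + m) + (m + 1) ≤ k) (s : SG G k), ∃ s' : SG G (k + 1),
      down G (show m ≤ k + 1 by omega) s' = down G (show m ≤ k by omega) s) (n : ℕ) : IsIso (θ hG n) :=
  KFlatLib.isIso_of_stalks _ fun y => by
    let F := DerSch.stalkFunctor (PU 𝔞) y
    let M := ModuleCat.of A (Lim G)
    haveI : Module.Finite A M := inferInstanceAs (Module.Finite A (Lim G))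
    have hπs : Function.Surjective (F.map (Formal.modPowπ (Ideal.span ({f} : Set A)) (n + 1) (FM 𝔞 M))).hom :=
      (ModuleCat.epi_iff_surjective _).1 inferInstance
    have hval : ∀ x, (F.map (θ hG n)).hom ((F.map (Formal.modPowπ (Ideal.span ({f} : Set A)) (n + 1) (FM 𝔞 M))).hom x) =
        (F.map (ΘG G n)).hom x := fun x => by
      rw [← π_θ hG n, F.map_comp]; rfl
    have hgerm : ∀ z : Lim G, (F.map (ΘG G n)).hom (gS (FM 𝔞 M) y (toF M z)) = gS (Gn G n) y (z.1 n) := fun z => by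
      rw [← gS_secL]
      exact congrArg (gS (Gn G n) y) (secL_Θ_toF (M := M) (proj n) z)
    refine (ConcreteCategory.isIso_iff_bijective _).mpr ⟨?_, ?_⟩
    · refine (injective_iff_map_eq_zero (F.map (θ hG n)).hom).2 fun c hc => ?_
      obtain ⟨a, rfl⟩ := hπs c
      rw [hval] at hc
      refine (Formal2VBLib.stalk_π_eq_zero_iff _ _ _ y a).2 ((mem_span_pow_smul_top _).2 ?_)
      obtain ⟨g, hg, z, hz⟩ := exists_smul_eq_gS_toF M y a
      have h0 : gS (Gn G n) y (z.1 n) = 0 := by rw [← hgerm, hz, map_smul, hc, smul_zero]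
      haveI : Coh.IsQCoh (Gn G n) := (hG.1 n).1
      obtain ⟨h, -, hh, hh0⟩ := exists_smul_eq_zero_of_gS (Gn G n) y (z.1 n) h0
      obtain ⟨w, hw⟩ := proj_eq_zero_imp hG hfree hnzd n (h • z) hh0
      have h1 : stalkHom A y (h * g) • a = stalkHom A y f ^ (n + 1) • gS (FM 𝔞 M) y (toF M w) := by
        rw [map_mul, mul_smul, ← hz, ← gS_smul, ← map_smul, ← hw, map_smul, gS_smul, map_pow]
      obtain ⟨v, hv⟩ := isUnit_iff_exists_inv.1 (isUnit_stalkHom (y := y) (s := h * g)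
        fun e => ((pr y).isPrime.mem_or_mem e).elim hh hg)
      refine ⟨v • gS (FM 𝔞 M) y (toF M w), ?_⟩
      rw [smul_comm, ← h1, smul_smul, mul_comm v, hv, one_smul]
    · intro c
      obtain ⟨b, rfl⟩ := stalk_down_surjective hG (show n ≤ (n₀ + n) + (n + 1) by omega) y c
      haveI : Coh.IsQCoh (Gn G ((n₀ + n) + (n + 1))) := (hG.1 _).1
      obtain ⟨g, -, hg, s, hs⟩ := exists_smul_eq_gS (Gn G ((n₀ + n) + (n + 1))) y b
      obtain ⟨z, hz⟩ := exists_lim_of_stable hst n _ le_rfl s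
      obtain ⟨v, hv⟩ := isUnit_iff_exists_inv.1 (isUnit_stalkHom (y := y) hg)
      refine ⟨(F.map (Formal.modPowπ (Ideal.span ({f} : Set A)) (n + 1) (FM 𝔞 M))).hom
        (v • gS (FM 𝔞 M) y (toF M z)), ?_⟩
      rw [hval, map_smul, hgerm, hz, show down G (show n ≤ (n₀ + n) + (n + 1) by omega) s =
        secL (G.map (homOfLE (show n ≤ (n₀ + n) + (n + 1) by omega)).op) s from rfl, gS_secL, hs, map_smul,
        smul_smul, mul_comm v, hv, one_smul]

include hfree hnzd hG in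
/-- Algebraization. -/
theorem exists_completion_iso [IsAdicComplete (Ideal.span ({f} : Set A)) A]
    (h₁ : Module.Finite A (LocCoh.H 𝔞 1 (A ⧸ Ideal.span ({f} : Set A))))
    (h₂ : Module.Finite A (LocCoh.H 𝔞 2 (A ⧸ Ideal.span ({f} : Set A)))) :
    ∃ F : (PU 𝔞).Modules, Coh.IsCoh F ∧ Nonempty (Formal.completion (Ideal.span ({f} : Set A)) F ≅ G) := by
  have hk0 : Formal.KilledBy (Ideal.span ({f} : Set A)) (Gn G 0) := fun a ha => hG.2.1 0 a (by rwa [zero_add, pow_one])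
  haveI := finite_sections (hG.1 0) hk0 (hfree 0) h₁ h₂
  haveI := finite_HH_one (hG.1 0) hk0 (hfree 0) h₁ h₂
  haveI := finite_Lim hG hfree hnzd
  obtain ⟨n₀, hst⟩ := exists_threshold hG hfree hnzd
  refine ⟨FM 𝔞 (ModuleCat.of A (Lim G)), (Groth.Agent.S2269.result A _ _).2
    ⟨Lim G, inferInstance, inferInstance, inferInstance, ⟨Iso.refl _⟩⟩, ?_⟩
  let φ : Formal.completion (Ideal.span ({f} : Set A)) (FM 𝔞 (ModuleCat.of A (Lim G))) ⟶ G :=
    NatTrans.ofOpSequence (fun n => θ hG n) fun n => by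
      rw [show (Formal.completion (Ideal.span ({f} : Set A)) (FM 𝔞 (ModuleCat.of A (Lim G)))).map
        (homOfLE (Nat.le_add_right n 1)).op = Formal.modPowTrans (Ideal.span ({f} : Set A)) (n + 1) _ from
        Functor.ofOpSequence_map_homOfLE_succ _ n]
      refine (cancel_epi (Formal.modPowπ (Ideal.span ({f} : Set A)) (n + 1 + 1) _)).1 ?_
      refine ((Category.assoc _ _ _).symm.trans ((congrArg (· ≫ θ hG n) (Formal.modPowπ_trans _ (n + 1) _)).trans
        (π_θ hG n))).trans ?_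
      exact ((Category.assoc _ _ _).symm.trans ((congrArg (· ≫ tr G n) (π_θ hG (n + 1))).trans (ΘG_tr n))).symm
  haveI : ∀ x, IsIso (φ.app x) := fun x => isIso_θ hG hfree hnzd hst x.unop
  haveI : IsIso φ := NatIso.isIso_of_isIso_app φ
  exact ⟨asIso φ⟩

end Formal2AlgzLib
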