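import Groth.Agent.KoszLcLib.CohPunctured
import Groth.Agent.Formal2VBLib.Basic
import Mathlib.AlgebraicGeometry.AffineScheme

/-!
# Stalks and global sections of quasi-coherent modules on a punctured spectrum
-/

set_option autoImplicit false
set_option linter.unusedSectionVars false
set_option maxRecDepth 8000

noncomputable section

universe u

open CategoryTheory CategoryTheory.Limits AlgebraicGeometry TopologicalSpace Opposite
open ProjFormLib (ger res ger_res ger_smul ger_add ger_map exists_ger section_ext)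
open CohCmpLib (stk)
open KoszLib (Res ρ ρ_top)
open KoszLcLib (scal)
open Formal2VBLib (stalkHom)

namespace Formal2AlgzLib

variable {A : Type u} [CommRing A] {𝔞 : Ideal A}

/-- The punctured spectrum as a scheme. -/
abbrev PU (𝔞 : Ideal A) : Scheme.{u} := (LocCoh.puncturedOpen A 𝔞 : (Spec (CommRingCat.of A)).Opens)

/-- The prime of a point of the punctured spectrum. -/
def pr (y : PU 𝔞) : PrimeSpectrum A := (LocCoh.puncturedOpen A 𝔞).ι y

theorem not_le_pr (y : PU 𝔞) : ¬ 𝔞 ≤ (pr y).asIdeal := y.2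

theorem isLocalization_of_isOpenImmersion {Y : Scheme.{u}} (j : Y ⟶ Spec (CommRingCat.of A)) [IsOpenImmersion j]
    (y : Y) (φ : A →+* Y.presheaf.stalk y)
    (hφ : ∀ a, φ a = Y.presheaf.germ ⊤ y trivial (j.appTop ((Scheme.ΓSpecIso (CommRingCat.of A)).inv a))) :
    letI := φ.toAlgebra
    IsLocalization.AtPrime (Y.presheaf.stalk y) (j y : PrimeSpectrum A).asIdeal := by
  let := φ.toAlgebra
  let x : PrimeSpectrum A := j y
  let e : CommRingCat.of (Localization.AtPrime x.asIdeal) ≅ Y.presheaf.stalk y :=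
    (Spec.stalkIso (CommRingCat.of A) (j y)).symm.trans (asIso (j.stalkMap y))
  have he : ∀ a : A, e.hom (algebraMap A (Localization.AtPrime x.asIdeal) a) = φ a := fun a => by
    rw [hφ]
    have h := congr($(Spec.algebraMap_stalkIso_inv (R := CommRingCat.of A) (x := j y)) a)
    refine (congrArg (fun z => j.stalkMap y z) h).trans ?_
    exact Scheme.Hom.germ_stalkMap_apply j ⊤ y trivial _
  exact IsLocalization.isLocalization_of_algEquiv x.asIdeal.primeCompl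
    (AlgEquiv.ofRingEquiv (f := e.commRingCatIsoToRingEquiv) he :
      Localization.AtPrime x.asIdeal ≃ₐ[A] Y.presheaf.stalk y)

theorem isLocalization_stalkHom (y : PU 𝔞) :
    letI := (stalkHom A y).toAlgebra
    IsLocalization.AtPrime ((PU 𝔞).presheaf.stalk y) (pr y).asIdeal :=
  isLocalization_of_isOpenImmersion (LocCoh.puncturedOpen A 𝔞).ι y (stalkHom A y) fun _ => rfl

theorem isUnit_stalkHom {y : PU 𝔞} {s : A} (hs : s ∉ (pr y).asIdeal) : IsUnit (stalkHom A y s) := by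
  let := (stalkHom A y).toAlgebra
  have := isLocalization_stalkHom y
  exact IsLocalization.map_units ((PU 𝔞).presheaf.stalk y) (⟨s, hs⟩ : (pr y).asIdeal.primeCompl)

theorem exists_mul_stalkHom (y : PU 𝔞) (c : (PU 𝔞).presheaf.stalk y) :
    ∃ a s : A, s ∉ (pr y).asIdeal ∧ c * stalkHom A y s = stalkHom A y a := by
  let := (stalkHom A y).toAlgebra
  have := isLocalization_stalkHom y
  obtain ⟨⟨a, s⟩, h⟩ := IsLocalization.surj (pr y).asIdeal.primeCompl c
  exact ⟨a, s.1, s.2, h⟩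

theorem stalkHom_eq_zero_iff {y : PU 𝔞} {a : A} : stalkHom A y a = 0 ↔ ∃ s ∉ (pr y).asIdeal, s * a = 0 := by
  let := (stalkHom A y).toAlgebra
  have := isLocalization_stalkHom y
  refine (IsLocalization.map_eq_zero_iff (pr y).asIdeal.primeCompl ((PU 𝔞).presheaf.stalk y) a).trans ⟨?_, ?_⟩
  · rintro ⟨s, hs⟩; exact ⟨s.1, s.2, hs⟩
  · rintro ⟨s, hs, h⟩; exact ⟨⟨s, hs⟩, h⟩

theorem isSMulRegular_stalkHom {f : A} (hf : f ∈ nonZeroDivisors A) (y : PU 𝔞) (c : (PU 𝔞).presheaf.stalk y)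
    (h : stalkHom A y f * c = 0) : c = 0 := by
  obtain ⟨a, s, hs, e⟩ := exists_mul_stalkHom y c
  have h1 : stalkHom A y (f * a) = 0 := by rw [map_mul, ← e, ← mul_assoc, h, zero_mul]
  obtain ⟨t, ht, ht'⟩ := stalkHom_eq_zero_iff.1 h1
  have h2 : t * a = 0 := (mem_nonZeroDivisors_iff.1 hf).1 _ (by rw [← ht']; ring)
  have h3 : stalkHom A y a = 0 := stalkHom_eq_zero_iff.2 ⟨t, ht, h2⟩
  exact (isUnit_stalkHom hs).mul_left_eq_zero.1 (e.trans h3)

/-- Global sections as an `A`-module. -/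
abbrev S (G : (PU 𝔞).Modules) : Type u := Res (scal 𝔞) Γ(G, ⊤)

/-- The germ of a global section. -/
def gS (G : (PU 𝔞).Modules) (y : PU 𝔞) : S G →+ stk G y where
  toFun s := ger G y (U := ⊤) trivial s
  map_zero' := CohCmpLib.ger_zero G y (U := ⊤) trivial
  map_add' := ger_add G y (U := ⊤) trivial

theorem gS_smul (G : (PU 𝔞).Modules) (y : PU 𝔞) (a : A) (s : S G) : gS G y (a • s) = stalkHom A y a • gS G y s :=
  ger_smul G y (U := ⊤) trivial (scal 𝔞 a) (show Γ(G, ⊤) from s)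

/-- A morphism on global sections. -/
def secL {G H : (PU 𝔞).Modules} (φ : G ⟶ H) : S G →ₗ[A] S H where
  toFun s := φ.app ⊤ (show Γ(G, ⊤) from s)
  map_add' s t := map_add (φ.app ⊤).hom s t
  map_smul' a s := Scheme.Modules.Hom.app_smul φ (scal 𝔞 a) (show Γ(G, ⊤) from s)

theorem gS_secL {G H : (PU 𝔞).Modules} (φ : G ⟶ H) (y : PU 𝔞) (s : S G) :
    gS H y (secL φ s) = ((DerSch.stalkFunctor (PU 𝔞) y).map φ).hom (gS G y s) :=
  (ger_map φ y (U := ⊤) trivial _).symm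

theorem exists_basic {y : PU 𝔞} (W : (PU 𝔞).Opens) (hW : y ∈ W) :
    ∃ g ∈ 𝔞, g ∉ (pr y).asIdeal ∧ (PU 𝔞).basicOpen (scal 𝔞 g) ≤ W := by
  let j := (LocCoh.puncturedOpen A 𝔞).ι
  obtain ⟨_, ⟨_, ⟨b, rfl⟩, rfl⟩, hyb, hbW⟩ := PrimeSpectrum.isBasis_basic_opens.exists_subset_of_mem_open
    (show pr y ∈ SetLike.coe (j ''ᵁ W) from ⟨y, hW, rfl⟩) (j ''ᵁ W).2
  obtain ⟨g, hg, hgy⟩ := Set.not_subset.1 (not_le_pr y)
  refine ⟨b * g, Ideal.mul_mem_left _ _ hg, fun h => ((pr y).isPrime.mem_or_mem h).elim hyb hgy, ?_⟩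
  rw [KoszLcLib.basicOpen_scal]
  intro z hz
  obtain ⟨z', hz', hzz⟩ := hbW (fun h : b ∈ (pr z).asIdeal => hz (Ideal.mul_mem_right g _ h))
  rwa [← j.isOpenEmbedding.injective hzz]

theorem mem_basic {y : PU 𝔞} {g : A} : y ∈ (PU 𝔞).basicOpen (scal 𝔞 g) ↔ g ∉ (pr y).asIdeal := by
  rw [KoszLcLib.basicOpen_scal]
  rfl

variable [IsNoetherianRing A]

theorem localizingAt (G : (PU 𝔞).Modules) [Coh.IsQCoh G] (g : A) : QCohLib.LocalizingAt G (scal 𝔞 g) := by
  haveI : NoetherianSpace (PU 𝔞) := (LocCoh.puncturedOpen A 𝔞).ι.isOpenEmbedding.isInducing.noetherianSpace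
  exact QCohLib.localizingAt_of_qcqs G isCompact_univ isQuasiSeparated_univ _

theorem exists_pow_smul_eq_res (G : (PU 𝔞).Modules) [Coh.IsQCoh G] (g : A)
    (t : Γ(G, (PU 𝔞).basicOpen (scal 𝔞 g))) :
    ∃ (n : ℕ) (s : S G), ∀ y (hy : y ∈ (PU 𝔞).basicOpen (scal 𝔞 g)),
      gS G y s = stalkHom A y (g ^ n) • ger G y hy t := by
  obtain ⟨n, s, hs⟩ := (localizingAt G g).exists_extend t
  refine ⟨n, s, fun y hy => ?_⟩
  refine (ger_res G (le_top : (PU 𝔞).basicOpen (scal 𝔞 g) ≤ ⊤) y hy s).symm.trans ?_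
  rw [show res G (le_top : (PU 𝔞).basicOpen (scal 𝔞 g) ≤ ⊤) s = _ from hs, ger_smul, map_pow, map_pow,
    TopCat.Presheaf.germ_res_apply]
  rfl

theorem exists_smul_eq_gS (G : (PU 𝔞).Modules) [Coh.IsQCoh G] (y : PU 𝔞) (a : stk G y) :
    ∃ g ∈ 𝔞, g ∉ (pr y).asIdeal ∧ ∃ s : S G, gS G y s = stalkHom A y g • a := by
  obtain ⟨W, hW, t, rfl⟩ := exists_ger G y a
  obtain ⟨g, hg, hgy, hgW⟩ := exists_basic W hW
  obtain ⟨n, s, hs⟩ := exists_pow_smul_eq_res G g (res G hgW t)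
  refine ⟨g ^ (n + 1), Ideal.pow_le_self (Nat.succ_ne_zero n) (Ideal.pow_mem_pow hg (n + 1)),
    fun h => hgy ((pr y).isPrime.mem_of_pow_mem _ h), g • s, ?_⟩
  rw [gS_smul, hs y (mem_basic.2 hgy), ger_res, smul_smul, ← map_mul, ← pow_succ']

theorem exists_pow_smul_eq_zero (G : (PU 𝔞).Modules) [Coh.IsQCoh G] {g : A} (s : S G)
    (h : ∀ y, g ∉ (pr y).asIdeal → gS G y s = 0) : ∃ k : ℕ, g ^ k • s = 0 := by
  obtain ⟨k, hk⟩ := (localizingAt G g).eq_zero s (by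
    refine section_ext _ _ fun y hy => ?_
    rw [CohCmpLib.ger_zero]
    exact (ger_res G _ y hy s).trans (h y (mem_basic.1 hy)))
  refine ⟨k, Eq.trans ?_ hk⟩
  change scal 𝔞 (g ^ k) • (show Γ(G, ⊤) from s) = _
  rw [map_pow]
  exact congrArg (fun r => r ^ k • (show Γ(G, ⊤) from s)) (ρ_top (scal 𝔞 g)).symm

theorem exists_smul_eq_zero_of_gS (G : (PU 𝔞).Modules) [Coh.IsQCoh G] (y : PU 𝔞) (s : S G) (h : gS G y s = 0) :
    ∃ g ∈ 𝔞, g ∉ (pr y).asIdeal ∧ g • s = 0 := by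
  obtain ⟨W, hW, i₁, i₂, e⟩ := G.presheaf.germ_eq y (show y ∈ (⊤ : (PU 𝔞).Opens) from trivial)
    (show y ∈ (⊤ : (PU 𝔞).Opens) from trivial) s 0 (h.trans (CohCmpLib.ger_zero G y (U := ⊤) trivial).symm)
  obtain ⟨g, hg, hgy, hgW⟩ := exists_basic W hW
  obtain ⟨k, hk⟩ := exists_pow_smul_eq_zero G s (g := g) fun z hz => by
    have hzW : z ∈ W := hgW (mem_basic.2 hz)
    refine (ger_res G (le_top : W ≤ ⊤) z hzW s).symm.trans ?_
    refine (congrArg (ger G z hzW) (e.trans (map_zero _))).trans (CohCmpLib.ger_zero G z hzW)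
  refine ⟨g ^ (k + 1), Ideal.pow_le_self (Nat.succ_ne_zero k) (Ideal.pow_mem_pow hg (k + 1)),
    fun h => hgy ((pr y).isPrime.mem_of_pow_mem _ h), ?_⟩
  rw [pow_succ', mul_smul, hk, smul_zero]

theorem eq_zero_of_gS (G : (PU 𝔞).Modules) (s : S G) (h : ∀ y, gS G y s = 0) : s = 0 :=
  section_ext (show Γ(G, ⊤) from s) 0 fun y _ => (h y).trans (CohCmpLib.ger_zero G y (U := ⊤) trivial).symm

end Formal2AlgzLib
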