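import Groth.Agent.Formal2AlgzLib.Main

/-!
# Formal coherent modules on a punctured spectrum come from systems of finite modules
-/

set_option autoImplicit false
set_option linter.unusedSectionVars false
set_option maxRecDepth 8000

noncomputable section

universe u

open CategoryTheory CategoryTheory.Limits AlgebraicGeometry TopologicalSpace Opposite
open CohCmpLib (stk)
open KoszLcLib (scal)
open Formal2VBLib (stalkHom)

namespace Formal2AlgzLib

variable {A : Type u} [CommRing A] [IsNoetherianRing A] {𝔞 : Ideal A} {I : Ideal A}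
  {G : ℕᵒᵖ ⥤ (PU 𝔞).Modules} (hG : Formal.IsCohFormal I G)

theorem exists_pow_smul_mem_of_local {M : Type u} [AddCommGroup M] [Module A M] (N : Submodule A M) (x : M)
    (h : ∀ y : PU 𝔞, ∃ s ∉ (pr y).asIdeal, s • x ∈ N) : ∃ m : ℕ, ∀ a ∈ 𝔞 ^ m, a • x ∈ N := by
  have hle : 𝔞 ≤ (N.colon {x}).radical := by
    rw [Ideal.radical_eq_sInf]
    refine le_sInf fun P ⟨hP, hPp⟩ => ?_
    by_contra hP𝔞
    obtain ⟨s, hs, hsx⟩ := h ⟨⟨P, hPp⟩, hP𝔞⟩
    exact hs (hP (Submodule.mem_colon_singleton.2 hsx))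
  obtain ⟨m, hm⟩ := Ideal.exists_pow_le_of_le_radical_of_fg hle (IsNoetherian.noetherian 𝔞)
  exact ⟨m, fun a ha => Submodule.mem_colon_singleton.1 (hm ha)⟩

include hG

theorem stalk_trI_surjective (n : ℕ) (y : PU 𝔞) :
    Function.Surjective ((DerSch.stalkFunctor (PU 𝔞) y).map (tr G n)).hom := by
  obtain ⟨h, hiso⟩ := hG.2.2 n
  let d := cokernel.desc _ (tr G n) h
  have hd : Function.Bijective ((DerSch.stalkFunctor (PU 𝔞) y).map d).hom :=
    haveI : IsIso d := hiso
    ConcreteCategory.bijective_of_isIso _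
  have hπ : Function.Surjective ((DerSch.stalkFunctor (PU 𝔞) y).map
      (Formal.modPowπ I (n + 1) (Gn G (n + 1)))).hom := (ModuleCat.epi_iff_surjective _).1 inferInstance
  intro c
  obtain ⟨b, rfl⟩ := hd.2 c
  obtain ⟨a, rfl⟩ := hπ b
  refine ⟨a, ?_⟩
  have e : Formal.modPowπ I (n + 1) (Gn G (n + 1)) ≫ d = tr G n := cokernel.π_desc _ _ _
  conv_lhs => rw [← e, Functor.map_comp]
  rfl

theorem stalk_trI_eq_zero_iff (n : ℕ) (y : PU 𝔞) (a : stk (Gn G (n + 1)) y) :
    ((DerSch.stalkFunctor (PU 𝔞) y).map (tr G n)).hom a = 0 ↔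
      a ∈ ((I ^ (n + 1)).map (stalkHom A y)) • (⊤ : Submodule ((PU 𝔞).presheaf.stalk y) (stk (Gn G (n + 1)) y)) := by
  obtain ⟨h, hiso⟩ := hG.2.2 n
  let d := cokernel.desc _ (tr G n) h
  have hd : Function.Bijective ((DerSch.stalkFunctor (PU 𝔞) y).map d).hom :=
    haveI : IsIso d := hiso
    ConcreteCategory.bijective_of_isIso _
  rw [← Formal2VBLib.stalk_π_eq_zero_iff]
  have e : Formal.modPowπ I (n + 1) (Gn G (n + 1)) ≫ d = tr G n := cokernel.π_desc _ _ _
  conv_lhs => rw [← e, Functor.map_comp]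
  exact map_eq_zero_iff _ hd.1

omit hG in
variable (G) in
/-- Compatible modules of sections. -/
def sysM (N : ∀ n, Submodule A (S (Gn G n))) : ∀ n, Submodule A (S (Gn G n))
  | 0 => N 0
  | n + 1 => N (n + 1) ⊓ (sysM N n).comap (secL (tr G n))

theorem exists_system :
    ∃ (M : ℕ → Type u) (_ : ∀ n, AddCommGroup (M n)) (_ : ∀ n, Module A (M n)) (g : ∀ n, M (n + 1) →ₗ[A] M n),
      (∀ n, Module.Finite A (M n)) ∧ (∀ n, I ^ (n + 1) • (⊤ : Submodule A (M n)) = ⊥) ∧
      (∀ n (x : M (n + 1)), g n x = 0 → ∃ m : ℕ, ∀ a ∈ 𝔞 ^ m, a • x ∈ I ^ (n + 1) • (⊤ : Submodule A (M (n + 1)))) ∧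
      (∀ n (y : M n), ∃ m : ℕ, ∀ a ∈ 𝔞 ^ m, a • y ∈ LinearMap.range (g n)) ∧
      Nonempty (G ≅ Functor.ofOpSequence (X := fun n => FM 𝔞 (ModuleCat.of A (M n)))
        (fun n => (Formal2VBLib.restrTilde (LocCoh.puncturedOpen A 𝔞)).map (ModuleCat.ofHom (g n)))) := by
  obtain ⟨fs, hfs⟩ := LocCohLib.exists_list_span 𝔞
  choose N hNfg hNtor using fun n => KoszLcLib.exists_finite_sections 𝔞 fs hfs (Gn G n) (hG.1 n)
  let M := sysM G N
  have hle : ∀ n, M n ≤ N n := fun n => by cases n <;> simp [M, sysM]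
  have hfin : ∀ n, Module.Finite A (M n) := fun n => by
    haveI : Module.Finite A (N n) := Module.Finite.iff_fg.2 (hNfg n)
    exact Module.Finite.of_injective _ (Submodule.inclusion_injective (hle n))
  have htor : ∀ n (x : S (Gn G n)), ∃ m : ℕ, ∀ a ∈ 𝔞 ^ m, a • x ∈ M n := by
    intro n
    induction n with
    | zero =>
      intro x
      obtain ⟨m, hm⟩ := hNtor 0 (Submodule.Quotient.mk x)
      exact ⟨m, fun a ha => (Submodule.Quotient.mk_eq_zero _).1 ((Submodule.Quotient.mk_smul _ a x).trans (hm a ha))⟩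
    | succ n ih =>
      intro x
      obtain ⟨m, hm⟩ := hNtor (n + 1) (Submodule.Quotient.mk x)
      obtain ⟨m', hm'⟩ := ih (secL (tr G n) x)
      refine ⟨max m m', fun a ha => ⟨(Submodule.Quotient.mk_eq_zero _).1 ((Submodule.Quotient.mk_smul _ a x).trans
        (hm a (Ideal.pow_le_pow_right (le_max_left _ _) ha))), ?_⟩⟩
      show secL (tr G n) (a • x) ∈ M n
      rw [map_smul]
      exact hm' a (Ideal.pow_le_pow_right (le_max_right _ _) ha)
  haveI : ∀ n, Coh.IsQCoh (Gn G n) := fun n => (hG.1 n).1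
  haveI := hfin
  -- every germ is, up to a unit, the germ of an element of the module
  have hex : ∀ n (y : PU 𝔞) (c : stk (Gn G n) y), ∃ s ∉ (pr y).asIdeal, ∃ x : M n,
      gS (Gn G n) y (x : S (Gn G n)) = stalkHom A y s • c := fun n y c => by
    obtain ⟨g, -, hg, s, hs⟩ := exists_smul_eq_gS (Gn G n) y c
    obtain ⟨m, hm⟩ := htor n s
    obtain ⟨t, ht, hty⟩ := Set.not_subset.1 (not_le_pr y)
    refine ⟨t ^ m * g, fun e => ((pr y).isPrime.mem_or_mem e).elim
      (fun e' => hty ((pr y).isPrime.mem_of_pow_mem m e')) hg, ⟨t ^ m • s, hm _ (Ideal.pow_mem_pow ht m)⟩, ?_⟩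
    show gS (Gn G n) y (t ^ m • s) = _
    rw [gS_smul, hs, map_mul, mul_smul]
  let g : ∀ n, M (n + 1) →ₗ[A] M n := fun n =>
    (secL (tr G n) ∘ₗ (M (n + 1)).subtype).codRestrict (M n) fun x => x.2.2
  let φ : ∀ n, FM 𝔞 (ModuleCat.of A (M n)) ⟶ Gn G n := fun n => Θ (M := ModuleCat.of A (M n)) (M n).subtype
  have hφ : ∀ n, IsIso (φ n) := fun n => KFlatLib.isIso_of_stalks _ fun y => by
    let F := DerSch.stalkFunctor (PU 𝔞) y
    have hgerm : ∀ z : M n, (F.map (φ n)).hom (gS _ y (toF (ModuleCat.of A (M n)) z)) =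
        gS (Gn G n) y (z : S (Gn G n)) := fun z => by
      rw [← gS_secL]
      exact congrArg (gS (Gn G n) y) (secL_Θ_toF (M := ModuleCat.of A (M n)) (M n).subtype z)
    refine (ConcreteCategory.isIso_iff_bijective _).mpr ⟨?_, fun c => ?_⟩
    · refine (injective_iff_map_eq_zero (F.map (φ n)).hom).2 fun a ha => ?_
      obtain ⟨g, hg, z, hz⟩ := exists_smul_eq_gS_toF (ModuleCat.of A (M n)) y a
      have h0 : gS (Gn G n) y ((z : M n) : S (Gn G n)) = 0 := by rw [← hgerm, hz, map_smul, ha, smul_zero]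
      obtain ⟨h, -, hh, hh0⟩ := exists_smul_eq_zero_of_gS (Gn G n) y _ h0
      have h1 : stalkHom A y (h * g) • a = 0 := by
        rw [map_mul, mul_smul, ← hz, ← gS_smul, ← map_smul]
        rw [show h • (show M n from z) = 0 from Subtype.ext hh0]
        exact (congrArg _ (map_zero (toF (ModuleCat.of A (M n))))).trans (map_zero _)
      exact (isUnit_stalkHom fun e => ((pr y).isPrime.mem_or_mem e).elim hh hg).smul_eq_zero.1 h1
    · obtain ⟨s, hs, x, hx⟩ := hex n y c
      obtain ⟨v, hv⟩ := isUnit_iff_exists_inv.1 (isUnit_stalkHom (y := y) hs)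
      refine ⟨v • gS _ y (toF (ModuleCat.of A (M n)) x), ?_⟩
      rw [map_smul, hgerm, hx, smul_smul, mul_comm v, hv, one_smul]
  refine ⟨fun n => M n, inferInstance, inferInstance, g, hfin, fun n => ?_, fun n x hx => ?_, fun n z => ?_, ⟨?_⟩⟩
  · refine eq_bot_iff.2 (Submodule.smul_le.2 fun a ha z _ => (Submodule.mem_bot A).2 (Subtype.ext ?_))
    show a • (z : S (Gn G n)) = 0
    rw [← secL_smulMod, hG.2.1 n a ha]
    rfl
  · refine exists_pow_smul_mem_of_local _ x fun y => ?_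
    have h0 : ((DerSch.stalkFunctor (PU 𝔞) y).map (tr G n)).hom (gS _ y (x : S (Gn G (n + 1)))) = 0 := by
      rw [← gS_secL, show secL (tr G n) (x : S (Gn G (n + 1))) = 0 from congrArg Subtype.val hx, map_zero]
    let P : stk (Gn G (n + 1)) y → Prop := fun c => ∃ s ∉ (pr y).asIdeal,
      ∃ m : M (n + 1), m ∈ I ^ (n + 1) • (⊤ : Submodule A (M (n + 1))) ∧
        gS _ y (m : S (Gn G (n + 1))) = stalkHom A y s • c
    have hone : (1 : A) ∉ (pr y).asIdeal := fun h => (pr y).isPrime.ne_top ((Ideal.eq_top_iff_one _).2 h)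
    have hP0 : P 0 := ⟨1, hone, 0, zero_mem _, by rw [smul_zero]; exact map_zero _⟩
    have hPadd : ∀ c d, P c → P d → P (c + d) := by
      rintro c d ⟨s, hs, m, hm, e⟩ ⟨s', hs', m', hm', e'⟩
      refine ⟨s * s', fun h => ((pr y).isPrime.mem_or_mem h).elim hs hs', s' • m + s • m',
        add_mem (Submodule.smul_mem _ _ hm) (Submodule.smul_mem _ _ hm'), ?_⟩
      show gS _ y (s' • (m : S (Gn G (n + 1))) + s • (m' : S (Gn G (n + 1)))) = _
      rw [map_add, gS_smul, gS_smul, e, e', smul_smul, smul_smul, ← map_mul, ← map_mul, mul_comm s' s, smul_add]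
    have hgen : ∀ a ∈ I ^ (n + 1), ∀ c, P (stalkHom A y a • c) := by
      intro a ha c
      obtain ⟨s, hs, m, hm⟩ := hex (n + 1) y c
      refine ⟨s, hs, a • m, Submodule.smul_mem_smul ha Submodule.mem_top, ?_⟩
      show gS _ y (a • (m : S (Gn G (n + 1)))) = _
      rw [gS_smul, hm, smul_comm]
    have key : P (gS _ y (x : S (Gn G (n + 1)))) := by
      refine Submodule.smul_induction_on ((stalk_trI_eq_zero_iff hG n y _).1 h0) (fun r hr c _ => ?_) hPadd
      induction hr using Submodule.span_induction generalizing c with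
      | mem r hr => obtain ⟨a, ha, rfl⟩ := hr; exact hgen a ha c
      | zero => rw [zero_smul]; exact hP0
      | add r r' _ _ h h' => rw [add_smul]; exact hPadd _ _ (h c trivial) (h' c trivial)
      | smul r r' _ h => rw [smul_eq_mul, mul_comm, mul_smul]; exact h _ trivial
    obtain ⟨s, hs, m, hm, e⟩ := key
    rw [← gS_smul, ← sub_eq_zero, ← map_sub] at e
    obtain ⟨h, -, hh, hh0⟩ := exists_smul_eq_zero_of_gS _ y _ e
    rw [smul_sub, sub_eq_zero] at hh0
    refine ⟨h * s, fun e => ((pr y).isPrime.mem_or_mem e).elim hh hs, ?_⟩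
    rw [show (h * s) • x = h • m from Subtype.ext (by rw [mul_smul]; exact hh0.symm)]
    exact Submodule.smul_mem _ _ hm
  · refine exists_pow_smul_mem_of_local _ z fun y => ?_
    obtain ⟨c, hc⟩ := stalk_trI_surjective hG n y (gS _ y (z : S (Gn G n)))
    obtain ⟨s, hs, m, hm⟩ := hex (n + 1) y c
    have e : gS (Gn G n) y (s • (z : S (Gn G n)) - secL (tr G n) (m : S (Gn G (n + 1)))) = 0 := by
      rw [map_sub, gS_smul, gS_secL, hm, map_smul, hc, sub_self]
    obtain ⟨h, -, hh, hh0⟩ := exists_smul_eq_zero_of_gS _ y _ e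
    rw [smul_sub, sub_eq_zero] at hh0
    exact ⟨h * s, fun e => ((pr y).isPrime.mem_or_mem e).elim hh hs, h • m,
      Subtype.ext ((map_smul (secL (tr G n)) h _).trans (by rw [← hh0, smul_smul]; rfl))⟩
  · let ψ : Functor.ofOpSequence (X := fun n => FM 𝔞 (ModuleCat.of A (M n)))
        (fun n => (Formal2VBLib.restrTilde (LocCoh.puncturedOpen A 𝔞)).map (ModuleCat.ofHom (g n))) ⟶ G :=
      NatTrans.ofOpSequence φ fun n => by
        rw [Functor.ofOpSequence_map_homOfLE_succ]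
        refine Eq.trans ?_ (Θ_comp (M := ModuleCat.of A (M (n + 1))) (M (n + 1)).subtype (tr G n)).symm
        exact ((adjU 𝔞).homEquiv_naturality_left_symm (ModuleCat.ofHom (g n))
          (toΓ (M := ModuleCat.of A (M n)) (M n).subtype)).symm
    haveI : ∀ k, IsIso (ψ.app k) := fun k => hφ k.unop
    haveI : IsIso ψ := NatIso.isIso_of_isIso_app ψ
    exact (asIso ψ).symm

end Formal2AlgzLib
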